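import Mathlib.AlgebraicGeometry.Noetherian
import Mathlib.Topology.NoetherianSpace
import Mathlib.Topology.Sheaves.SheafCondition.UniqueGluing
import Mathlib.Topology.Connected.LocallyConnected

/-!
# Connected components and opens with the extension property for functions
-/

set_option autoImplicit false

universe u

open CategoryTheory Opposite TopologicalSpace AlgebraicGeometry

namespace Groth.L04.SupportSh

theorem isOpen_connectedComponent_of_noetherianSpace {α : Type u} [TopologicalSpace α] [NoetherianSpace α]
    (x : α) : IsOpen (connectedComponent x) := by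
  have h : (connectedComponent x)ᶜ = ⋃₀ {Z ∈ irreducibleComponents α | ¬ Z ⊆ connectedComponent x} := by
    ext y
    constructor
    · intro hy
      exact ⟨irreducibleComponent y, ⟨irreducibleComponent_mem_irreducibleComponents y,
        fun h => hy (h mem_irreducibleComponent)⟩, mem_irreducibleComponent⟩
    · rintro ⟨Z, ⟨hZ, hZC⟩, hyZ⟩ hyC
      exact hZC ((hZ.1.isConnected.isPreconnected.subset_connectedComponent hyZ).trans
        (connectedComponent_eq hyC).ge)
  rw [← isClosed_compl_iff, h, Set.sUnion_eq_biUnion]
  exact ((NoetherianSpace.finite_irreducibleComponents).subset fun _ h => h.1).isClosed_biUnion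
    fun Z hZ => isClosed_of_mem_irreducibleComponents Z hZ.1

variable {X : Scheme.{u}}

theorem isOpen_connectedComponent [IsLocallyNoetherian X] (x : X) : IsOpen (connectedComponent x) := by
  refine isOpen_iff_mem_nhds.2 fun y hy => ?_
  rw [connectedComponent_eq hy]
  obtain ⟨_, ⟨V, hV, rfl⟩, hyV, -⟩ :=
    X.isBasis_affineOpens.exists_subset_of_mem_open (Set.mem_univ y) isOpen_univ
  haveI := IsLocallyNoetherian.component_noetherian ⟨V, hV⟩
  haveI : NoetherianSpace (V : Set X) := noetherianSpace_of_isAffineOpen V hV
  let y' : (V : Set X) := ⟨y, hyV⟩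
  refine mem_nhds_iff.2 ⟨Subtype.val '' connectedComponent y', ?_, V.2.isOpenMap_subtype_val _
    (isOpen_connectedComponent_of_noetherianSpace y'), y', mem_connectedComponent, rfl⟩
  exact (continuous_subtype_val.image_connectedComponent_subset y')

/-- Functions which extend uniquely: the inclusion is bijective on connected components. -/
theorem connectedComponentsMap_bijective [IsLocallyNoetherian X] (U : X.Opens)
    (h : ∀ V : X.Opens, Function.Bijective (X.presheaf.map (homOfLE (inf_le_left : V ⊓ U ≤ V)).op)) :
    Function.Bijective (Continuous.connectedComponentsMap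
      (continuous_subtype_val : Continuous (fun x : U => (x : X)))) := by
  constructor
  · intro a b hab
    obtain ⟨u, rfl⟩ := ConnectedComponents.surjective_coe a
    obtain ⟨v, rfl⟩ := ConnectedComponents.surjective_coe b
    have huv : connectedComponent (u : X) = connectedComponent (v : X) := ConnectedComponents.coe_eq_coe.1 hab
    let C : X.Opens := ⟨connectedComponent (u : X), isOpen_connectedComponent _⟩
    have hpre : _root_.IsPreconnected ((C ⊓ U : X.Opens) : Set X) := by
      intro A B hA hB hcov hneA hneB
      by_contra hAB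
      rw [Set.not_nonempty_iff_eq_empty] at hAB
      let W : Bool → X.Opens := fun b => C ⊓ U ⊓ (bif b then ⟨A, hA⟩ else ⟨B, hB⟩)
      let s : ∀ b, Γ(X, W b) := fun b => match b with | true => 1 | false => 0
      have hdisj : ∀ b b', b ≠ b' → W b ⊓ W b' = ⊥ := by
        intro b b' hbb
        refine eq_bot_iff.2 fun z hz => ?_
        obtain ⟨⟨h1, h2⟩, h3, h4⟩ := hz
        have hz' : z ∈ ((C ⊓ U : X.Opens) : Set X) ∩ (A ∩ B) := by
          cases b <;> cases b'
          · exact absurd rfl hbb
          · exact ⟨h1, h4, h2⟩
          · exact ⟨h1, h2, h4⟩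
          · exact absurd rfl hbb
        rw [hAB] at hz'
        exact hz'.elim
      obtain ⟨e, he, -⟩ := X.sheaf.existsUnique_gluing' W (C ⊓ U) (fun b => homOfLE inf_le_left)
        (fun z hz => by
          rcases hcov hz with hzA | hzB
          · exact Opens.mem_iSup.2 ⟨true, hz, hzA⟩
          · exact Opens.mem_iSup.2 ⟨false, hz, hzB⟩)
        s (fun b b' => by
          by_cases hbb : b = b'
          · subst hbb; rfl
          · exact @Subsingleton.elim _ (by
              change Subsingleton Γ(X, W b ⊓ W b')
              rw [hdisj b b' hbb]; infer_instance) _ _)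
      obtain ⟨e', he'⟩ := (h C).2 e
      have hidem : e' * e' = e' := (h C).1 <| by
        rw [map_mul, he']
        refine TopCat.Sheaf.eq_of_locally_eq' X.sheaf W (C ⊓ U) (fun b => homOfLE inf_le_left)
          (fun z hz => by
            rcases hcov hz with hzA | hzB
            · exact Opens.mem_iSup.2 ⟨true, hz, hzA⟩
            · exact Opens.mem_iSup.2 ⟨false, hz, hzB⟩) _ _ fun b => ?_
        refine (map_mul _ _ _).trans ?_
        erw [he b]
        cases b
        · exact mul_zero _
        · exact mul_one _
      have hcover : (C : Set X) ⊆ X.basicOpen e' ∪ X.basicOpen (1 - e') := by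
        intro z hz
        by_cases hze : IsUnit (X.presheaf.germ C z hz e')
        · exact Or.inl ((X.mem_basicOpen _ _ hz).2 hze)
        · refine Or.inr ((X.mem_basicOpen _ _ hz).2 ?_)
          rw [map_sub, map_one]
          exact IsLocalRing.isUnit_one_sub_self_of_mem_nonunits _ hze
      have hdis : ((C : Set X) ∩ ((X.basicOpen e' : Set X) ∩ X.basicOpen (1 - e'))) = ∅ := by
        have h0 : X.basicOpen e' ⊓ X.basicOpen (1 - e') = ⊥ := by
          rw [← Scheme.basicOpen_mul, mul_sub, mul_one, hidem, sub_self, Scheme.basicOpen_zero]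
        refine Set.eq_empty_of_forall_notMem fun z hz => ?_
        have : z ∈ X.basicOpen e' ⊓ X.basicOpen (1 - e') := hz.2
        rw [h0] at this
        exact this
      have hmem : ∀ b, ∀ z ∈ W b, (z ∈ X.basicOpen e' ↔ b = true) := by
        intro b z hz
        have hC : z ∈ C := hz.1.1
        have hg : X.presheaf.germ C z hC e' = X.presheaf.germ (W b) z hz (s b) := by
          rw [← TopCat.Presheaf.germ_res_apply X.presheaf
            (homOfLE ((inf_le_left : W b ≤ C ⊓ U).trans inf_le_left)) z hz e', ← he b, ← he']
          congr 1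
          exact congr($((X.presheaf.map_comp (homOfLE (inf_le_left : C ⊓ U ≤ C)).op
            (homOfLE (inf_le_left : W b ≤ C ⊓ U)).op)) e')
        rw [X.mem_basicOpen _ _ hC, hg]
        cases b
        · simp [s]
        · simp [s]
      obtain ⟨za, hza, hzA⟩ := hneA
      obtain ⟨zb, hzb, hzB⟩ := hneB
      have h1 := (hmem true za ⟨hza, hzA⟩).2 rfl
      have h2 : zb ∈ X.basicOpen (1 - e') := (hcover hzb.1).resolve_left fun h =>
        Bool.false_ne_true ((hmem false zb ⟨hzb, hzB⟩).1 h)
      obtain ⟨z, hz⟩ := (isPreconnected_connectedComponent (x := (u : X))) _ _ (X.basicOpen e').2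
        (X.basicOpen (1 - e')).2 hcover ⟨za, hza.1, h1⟩ ⟨zb, hzb.1, h2⟩
      exact Set.notMem_empty z (hdis ▸ hz)
    refine ConnectedComponents.coe_eq_coe'.2 ?_
    have hpre' : _root_.IsPreconnected (Subtype.val ⁻¹' (C : Set X) : Set U) := by
      refine U.2.isOpenEmbedding_subtypeVal.toIsEmbedding.toIsInducing.isPreconnected_image.1 ?_
      refine (?_ : (Subtype.val '' (Subtype.val ⁻¹' (C : Set X) : Set (U : Set X))) =
        ((C ⊓ U : X.Opens) : Set X)) ▸ hpre
      exact (Subtype.image_preimage_coe _ _).trans (Set.inter_comm _ _)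
    exact hpre'.subset_connectedComponent (x := v) (by
      change (v : X) ∈ connectedComponent (u : X)
      rw [huv]; exact mem_connectedComponent) (show (u : X) ∈ connectedComponent (u : X) from mem_connectedComponent)
  · intro a
    obtain ⟨x, rfl⟩ := ConnectedComponents.surjective_coe a
    let C : X.Opens := ⟨connectedComponent x, isOpen_connectedComponent _⟩
    by_contra hne
    have hCU : C ⊓ U = ⊥ := eq_bot_iff.2 fun z hz => hne ⟨ConnectedComponents.mk ⟨z, hz.2⟩,
      ConnectedComponents.coe_eq_coe'.2 hz.1⟩
    have h10 : (1 : Γ(X, C)) = 0 := (h C).1 (@Subsingleton.elim _ (by rw [hCU]; infer_instance) _ _)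
    have hbo := congrArg (fun f => X.basicOpen f) h10
    simp only [Scheme.basicOpen_of_isUnit _ isUnit_one, Scheme.basicOpen_zero] at hbo
    exact (hbo ▸ (mem_connectedComponent : x ∈ connectedComponent x) : x ∈ (⊥ : X.Opens))

end Groth.L04.SupportSh
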