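import Groth.Agent.L04.Depth2
import Groth.Agent.L20.ModStalk
import Groth.Agent.L06.FlatFibre

/-!
# Depth of stalks as depth of localizations
-/

set_option autoImplicit false

universe u

open IsLocalRing AlgebraicGeometry CategoryTheory

namespace Groth.L04.SupportSh

theorem depth_eq_of_isLocalizedModule {A : Type u} [CommRing A] [IsNoetherianRing A] (p : Ideal A) [p.IsPrime]
    (S : Type u) [CommRing S] [IsLocalRing S] [Algebra A S] [IsLocalization.AtPrime S p]
    {N M' : Type u} [AddCommGroup N] [Module A N] [Module.Finite A N] [AddCommGroup M'] [Module A M']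
    [Module S M'] [IsScalarTower A S M'] (f : N →ₗ[A] M') [IsLocalizedModule p.primeCompl f] :
    LocCoh.depth S M' = LocCoh.depth (Localization.AtPrime p) (LocalizedModule p.primeCompl N) := by
  let ρ : Localization.AtPrime p ≃ₐ[A] S := IsLocalization.algEquiv p.primeCompl _ _
  letI : Algebra (Localization.AtPrime p) S := ρ.toRingEquiv.toRingHom.toAlgebra
  letI : Module (Localization.AtPrime p) M' := Module.compHom M' ρ.toRingEquiv.toRingHom
  haveI : IsScalarTower (Localization.AtPrime p) S M' := ⟨fun r s m => mul_smul (ρ r) s m⟩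
  haveI : IsScalarTower A (Localization.AtPrime p) M' := ⟨fun a r m => by
    change ρ (a • r) • m = a • (ρ r • m)
    rw [map_smul, smul_assoc]⟩
  haveI : Module.Finite (Localization.AtPrime p) S :=
    Module.Finite.of_surjective (Algebra.linearMap _ S) ρ.surjective
  haveI : Module.Finite S M' := Module.Finite.of_isLocalizedModule p.primeCompl f
  have he : LocCoh.idealDepth (maximalIdeal (Localization.AtPrime p)) (LocalizedModule p.primeCompl N) =
      LocCoh.idealDepth (maximalIdeal (Localization.AtPrime p)) M' :=
    Groth.L04.idealDepth_congr (LinearEquiv.extendScalarsOfIsLocalization p.primeCompl (Localization.AtPrime p)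
      (IsLocalizedModule.iso p.primeCompl f))
  rw [LocCoh.depth, LocCoh.depth, he,
    Groth.L04.idealDepth_eq_idealDepth_map_of_finite (B := S) (maximalIdeal (Localization.AtPrime p)) M']
  congr 1
  exact ((Ideal.map_eq_top_or_isMaximal_of_surjective (algebraMap (Localization.AtPrime p) S) ρ.surjective
    (maximalIdeal.isMaximal _)).elim (fun h => absurd h (by
      intro h1
      refine (maximalIdeal.isMaximal (Localization.AtPrime p)).ne_top ?_
      rw [← Ideal.comap_map_of_bijective (algebraMap (Localization.AtPrime p) S) ρ.bijective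
        (I := maximalIdeal (Localization.AtPrime p)), h1, Ideal.comap_top]))
    (fun h => IsLocalRing.eq_maximalIdeal h)).symm

variable {X : Scheme.{u}}

theorem depth_stalk_eq [IsLocallyNoetherian X] (M : X.Modules) (hM : Coh.IsCoh M) {V : X.Opens}
    (hV : IsAffineOpen V) {x : X} (hx : x ∈ V) :
    LocCoh.depth (X.presheaf.stalk x) (M.presheaf.stalk x) =
      LocCoh.depth (Localization.AtPrime (hV.primeIdealOf ⟨x, hx⟩).asIdeal)
        (LocalizedModule (hV.primeIdealOf ⟨x, hx⟩).asIdeal.primeCompl Γ(M, V)) := by
  haveI : Coh.IsQCoh M := hM.1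
  haveI := IsLocallyNoetherian.component_noetherian ⟨V, hV⟩
  haveI := Groth.L20.ModStalk.finite_sections M hM hV
  letI := X.presheaf.algebra_section_stalk ⟨x, hx⟩
  haveI := hV.isLocalization_stalk ⟨x, hx⟩
  letI := Groth.L20.ModStalk.stalkModule M hx
  haveI : IsScalarTower Γ(X, V) (X.presheaf.stalk x) (M.presheaf.stalk x) := ⟨fun a s m => mul_smul _ s m⟩
  haveI := Groth.L20.ModStalk.isLocalizedModule_germ M hV hx
  exact depth_eq_of_isLocalizedModule (hV.primeIdealOf ⟨x, hx⟩).asIdeal (X.presheaf.stalk x)
    (Groth.L20.ModStalk.germₗ M hx)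

end Groth.L04.SupportSh
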