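import Groth.Agent.L04.SupportSh.Sections
import Groth.Agent.L10.TopCoh

/-!
# Vanishing of local cohomology sheaves and restriction maps
-/

set_option autoImplicit false
set_option backward.isDefEq.respectTransparency false

universe u

open CategoryTheory CategoryTheory.Limits Opposite TopologicalSpace HomologicalComplex CategoryTheory.Abelian

namespace Groth.L04.SupportSh

variable {X : TopCat.{u}} (U : Opens X)

theorem res_zero_bijective_iff (F : CohTop.Ab X) {W V : Opens X} (h : W ≤ V) :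
    (Function.Injective (CohTop.res F 0 h) ↔ Function.Injective (F.obj.map (homOfLE h).op)) ∧
    (Function.Surjective (CohTop.res F 0 h) ↔ Function.Surjective (F.obj.map (homOfLE h).op)) := by
  let a := Groth.L10.SiteCoh.hu0 (J := Opens.grothendieckTopology X) F V
  let b := Groth.L10.SiteCoh.hu0 (J := Opens.grothendieckTopology X) F W
  have h1 : (⇑(F.obj.map (homOfLE h).op) : _ → _) = b ∘ CohTop.res F 0 h ∘ a.symm := funext fun s =>
    ((Groth.L10.SiteCoh.hu0_map (homOfLE h) (a.symm s)).trans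
      (congrArg (F.obj.map (homOfLE h).op) (a.apply_symm_apply s))).symm
  rw [h1]
  exact ⟨⟨fun H => b.injective.comp (H.comp a.symm.injective),
      fun H => (H.of_comp (f := b)).of_comp_right a.symm.surjective⟩,
    ⟨fun H => b.surjective.comp (H.comp a.symm.surjective),
      fun H => (H.of_comp_left b.injective).of_comp⟩⟩

theorem happ {A B : CohTop.Ab X} {f g : A ⟶ B} (h : f = g) (V : Opens X) (x : A.obj.obj (op V)) :
    f.hom.app (op V) x = g.hom.app (op V) x := by rw [h]

theorem isZero_HZsh_zero (F : CohTop.Ab X)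
    (h : ∀ V : Opens X, Function.Injective (F.obj.map (homOfLE (inf_le_left : V ⊓ U ≤ V)).op)) :
    IsZero ((LocCohZ.HZsh U 0).obj F) := by
  refine isZero_of_basis _ Set.univ (Opens.isBasis_iff_nbhd.2 fun {W x} hx => ⟨W, Set.mem_univ _, hx, le_rfl⟩)
    fun V _ => ?_
  obtain ⟨e⟩ := nonempty_rightDerived_sectV U V F 0 (by simp)
  obtain ⟨e0⟩ := nonempty_sectV_zero U V F
  refine AddCommGrpCat.subsingleton_of_isZero (IsZero.of_iso ?_ e.symm)
  refine IsZero.of_iso (@AddCommGrpCat.isZero_of_subsingleton _ ⟨fun a b => ?_⟩) e0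
  apply Groth.L17.SectSupp.incl_app_injective U F V
  apply h V
  rw [Groth.L17.SectSupp.incl_app_mem U F V a, Groth.L17.SectSupp.incl_app_mem U F V b]

theorem epi_of_surjective_basis {A C : CohTop.Ab X} (φ : A ⟶ C) (B : Set (Opens X)) (hB : Opens.IsBasis B)
    (h : ∀ V ∈ B, Function.Surjective (φ.hom.app (op V))) : Epi φ := by
  refine ⟨fun {G} g g' hgg => Sheaf.hom_ext (NatTrans.ext (funext fun W => ?_))⟩
  obtain ⟨W⟩ := W
  ext (z : C.obj.obj (op W))
  choose V hVB hxV hVW using fun q : W => Opens.isBasis_iff_nbhd.1 hB q.2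
  refine TopCat.Sheaf.eq_of_locally_eq' G V W (fun q => homOfLE (hVW q))
    (fun q hq => Opens.mem_iSup.2 ⟨⟨q, hq⟩, hxV ⟨q, hq⟩⟩) _ _ fun q => ?_
  obtain ⟨x, hx⟩ := h (V q) (hVB q) (C.obj.map (homOfLE (hVW q)).op z)
  refine (congr($(g.hom.naturality (homOfLE (hVW q)).op) z)).symm.trans (Eq.trans ?_
    (congr($(g'.hom.naturality (homOfLE (hVW q)).op) z)))
  refine (congrArg (g.hom.app (op (V q))) hx.symm).trans (Eq.trans ?_ (congrArg (g'.hom.app (op (V q))) hx))
  exact happ hgg (V q) x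

/-- If restriction is surjective in degree `p` on a basis, the local cohomology sheaf in degree `p + 1` is zero. -/
theorem isZero_HZsh_succ_of_basis (F : CohTop.Ab X) (p : ℕ) (B : Set (Opens X)) (hB : Opens.IsBasis B)
    (h : ∀ V ∈ B, Function.Surjective (CohTop.res F p (inf_le_left : V ⊓ U ≤ V))) :
    IsZero ((LocCohZ.HZsh U (p + 1)).obj F) := by
  obtain ⟨δ, hδ⟩ := Groth.L04.FunctorLES.exists_δ (inclNat U) (unitJ U) (inclNat_unit U)
    (shortExact_of_injective_ab U) p
  obtain ⟨⟨w, he⟩, w', he'⟩ := hδ F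
  refine he'.isZero_of_both_zeros ?_ ((isZero_rightDerived_id_succ p F).eq_of_tgt _ _)
  suffices Epi ((NatTrans.rightDerived (unitJ U) p).app F) from zero_of_epi_comp _ w
  let R := injectiveResolution F
  rw [R.rightDerived_app_eq (unitJ U) p]
  let K : CochainComplex (CohTop.Ab X) ℕ := ((𝟭 (CohTop.Ab X)).mapHomologicalComplex _).obj R.cocomplex
  let K' : CochainComplex (CohTop.Ab X) ℕ :=
    ((CohTop.pull (CohCx.incl U) ⋙ CohTop.push (CohCx.incl U)).mapHomologicalComplex _).obj R.cocomplex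
  let φ : K ⟶ K' := (NatTrans.mapHomologicalComplex (unitJ U) _).app R.cocomplex
  suffices Epi (cyclesMap φ p) by
    have : Epi (homologyMap φ p) := by
      haveI : Epi (K.homologyπ p ≫ homologyMap φ p) := by
        rw [homologyπ_naturality φ p]; infer_instance
      exact epi_of_epi (K.homologyπ p) _
    change Epi (_ ≫ homologyMap φ p ≫ _)
    infer_instance
  refine epi_of_surjective_basis _ B hB fun V hVB => ?_
  intro (z : ((K'.cycles p).obj.obj (op V)))
  let W := V ⊓ U
  let hW : W ≤ V := inf_le_left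
  let P : CochainComplex ((Opens X)ᵒᵖ ⥤ AddCommGrpCat.{u}) ℕ := Groth.L10.SiteCoh.pcx R
  obtain ⟨e⟩ := Groth.L10.SiteCoh.nonempty_rightDerived_iso (J := Opens.grothendieckTopology X) F p
  let e' : P.homology p ≅ Sheaf.cohomologyPresheaf.{u} F p := (R.isoRightDerivedObj _ p).symm ≪≫ e
  have hsurj : Function.Surjective ((P.homology p).map (homOfLE hW).op) := by
    intro y
    obtain ⟨x, hx⟩ := h V hVB (e'.hom.app (op W) y)
    refine ⟨e'.inv.app (op V) x, ?_⟩
    refine (congr($(e'.inv.naturality (homOfLE hW).op) x)).symm.trans ?_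
    refine (congrArg (e'.inv.app (op W)) hx).trans ?_
    exact congr($(congr_app e'.hom_inv_id (op W)) y)
  haveI : ∀ q, TopCat.Sheaf.IsFlasque (R.cocomplex.X q) := fun q =>
    Groth.L10.TopCoh.isFlasque_of_injective _
  obtain ⟨y, hy⟩ : ∃ y : (R.cocomplex.X p).obj.obj (op V),
      ((unitJ U).app (R.cocomplex.X p)).hom.app (op V) y = (K'.iCycles p).hom.app (op V) z :=
    unit_app_surjective U (R.cocomplex.X p) V ((K'.iCycles p).hom.app (op V) z)
  let yW : (P.X p).obj (op W) := (R.cocomplex.X p).obj.map (homOfLE hW).op y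
  have hyW : (P.d p (p + 1)).app (op W) yW = 0 := by
    refine (congr($((R.cocomplex.d p (p + 1)).hom.naturality (homOfLE hW).op) y)).trans ?_
    refine (Groth.L17.SectSupp.ker_unit_app U (R.cocomplex.X (p + 1)) V _).1 ?_
    refine (happ ((unitJ U).naturality (R.cocomplex.d p (p + 1))) V y).trans ?_
    refine (congrArg _ hy).trans ?_
    exact happ (K'.iCycles_d p (p + 1)) V z
  have hker : ∀ (W' : Opens X) (c : (P.X p).obj (op W')), (P.d p (p + 1)).app (op W') c = 0 →
      ∃ c', (P.iCycles p).app (op W') c' = c := fun W' c hc => by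
    have hk : ((ShortComplex.mk _ _ (P.iCycles_d p (p + 1))).map
        ((evaluation _ _).obj (op W'))).Exact :=
      (ShortComplex.exact_of_f_is_kernel _ (P.cyclesIsKernel p (p + 1) (by simp))).map _
    rw [ShortComplex.ab_exact_iff] at hk
    exact hk c hc
  have hπ : ∀ (W' : Opens X), Function.Surjective ((P.homologyπ p).app (op W')) := fun W' =>
    (AddCommGrpCat.epi_iff_surjective _).1 inferInstance
  obtain ⟨c, hc⟩ := hker W yW hyW
  obtain ⟨a, ha⟩ := hsurj ((P.homologyπ p).app (op W) c)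
  obtain ⟨a', rfl⟩ := hπ V a
  have hdiff : (P.homologyπ p).app (op W) ((P.cycles p).map (homOfLE hW).op a' - c) = 0 := by
    rw [map_sub, sub_eq_zero]
    exact (congr($((P.homologyπ p).naturality (homOfLE hW).op) a')).trans ha
  let q := (ComplexShape.up ℕ).prev p
  have hco : ((ShortComplex.mk _ _ (P.toCycles_comp_homologyπ q p)).map
      ((evaluation _ _).obj (op W))).Exact :=
    (ShortComplex.exact_of_g_is_cokernel _ (P.homologyIsCokernel q p rfl)).map _
  rw [ShortComplex.ab_exact_iff] at hco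
  obtain ⟨w₀, hw₀⟩ := hco _ hdiff
  obtain ⟨w₁, hw₁⟩ := (AddCommGrpCat.epi_iff_surjective _).1
    (TopCat.Presheaf.IsFlasque.epi (F := (R.cocomplex.X q).obj) (homOfLE hW).op) w₀
  let a'' : (R.cocomplex.X p).obj.obj (op V) := (P.iCycles p).app (op V) a'
  let y' : (R.cocomplex.X p).obj.obj (op V) := a'' - (R.cocomplex.d q p).hom.app (op V) w₁
  have hy'd : (R.cocomplex.d p (p + 1)).hom.app (op V) y' = 0 := by
    simp only [y', map_sub]
    rw [show (R.cocomplex.d p (p + 1)).hom.app (op V) ((P.iCycles p).app (op V) a') = 0 from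
      congr($(congr_app (P.iCycles_d p (p + 1)) (op V)) a'), zero_sub, neg_eq_zero]
    exact happ (R.cocomplex.d_comp_d q p (p + 1)) V w₁
  have hy'W : (R.cocomplex.X p).obj.map (homOfLE hW).op y' = yW := by
    simp only [y', map_sub]
    rw [show (R.cocomplex.X p).obj.map (homOfLE hW).op ((P.iCycles p).app (op V) a') =
      (P.iCycles p).app (op W) ((P.cycles p).map (homOfLE hW).op a') from
        (congr($((P.iCycles p).naturality (homOfLE hW).op) a')).symm,
      show (R.cocomplex.X p).obj.map (homOfLE hW).op ((R.cocomplex.d q p).hom.app (op V) w₁) =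
        (P.iCycles p).app (op W) ((P.toCycles q p).app (op W) w₀) from
        ((congr($((R.cocomplex.d q p).hom.naturality (homOfLE hW).op) w₁)).symm.trans
          (congrArg (fun v => (R.cocomplex.d q p).hom.app (op W) v) hw₁)).trans (congr($(congr_app (P.toCycles_i q p) (op W)) w₀)).symm,
      ]
    refine (map_sub _ _ _).symm.trans (Eq.trans ?_ hc)
    refine congrArg _ ?_
    exact (congrArg ((P.cycles p).map (homOfLE hW).op a' - ·) hw₀).trans (sub_sub_cancel _ _)
  have hunit : ((unitJ U).app (R.cocomplex.X p)).hom.app (op V) y' = (K'.iCycles p).hom.app (op V) z := by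
    rw [← hy, ← sub_eq_zero, ← map_sub]
    refine (Groth.L17.SectSupp.ker_unit_app U _ V _).2 ?_
    rw [map_sub, hy'W, sub_eq_zero]
  have hK : ((ShortComplex.mk _ _ (K.iCycles_d p (p + 1))).map (secV V)).Exact :=
    (ShortComplex.exact_of_f_is_kernel _ (K.cyclesIsKernel p (p + 1) (by simp))).map_of_mono_of_preservesKernel
      (secV V) (inferInstanceAs (Mono (K.iCycles p))) inferInstance
  rw [ShortComplex.ab_exact_iff] at hK
  obtain ⟨x, hx⟩ := hK y' hy'd
  refine ⟨x, ?_⟩
  haveI : Mono (K'.iCycles p) := inferInstance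
  apply (AddCommGrpCat.mono_iff_injective _).1 ((secV V).map_mono (f := K'.iCycles p))
  refine (happ (cyclesMap_i φ p) V x).trans ?_
  exact (congrArg _ hx).trans hunit

/-- If restriction is surjective in degree `p`, the local cohomology sheaf in degree `p + 1` is zero. -/
theorem isZero_HZsh_succ (F : CohTop.Ab X) (p : ℕ)
    (h : ∀ V : Opens X, Function.Surjective (CohTop.res F p (inf_le_left : V ⊓ U ≤ V))) :
    IsZero ((LocCohZ.HZsh U (p + 1)).obj F) :=
  isZero_HZsh_succ_of_basis U F p Set.univ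
    (Opens.isBasis_iff_nbhd.2 fun {W x} hx => ⟨W, Set.mem_univ _, hx, le_rfl⟩) fun V _ => h V

/-- `Γ_{V ∖ U}(V, -)` is `Hom(ℤ_V/ℤ_{V ∩ U}, -)`. -/
theorem exists_sectVIso (V : Opens X) : Nonempty (sectV U V ≅
    Groth.L17.GrothSS.homFun (LocCohZ.zq (inf_le_left : V ⊓ U ≤ V))) := by
  let π := cokernel.π (CohCx.freeSheafMap (Opens.grothendieckTopology X) (homOfLE (inf_le_left : V ⊓ U ≤ V)))
  have hval : ∀ (F : CohTop.Ab X) (ψ : LocCohZ.zq (inf_le_left : V ⊓ U ≤ V) ⟶ F), ∃ s,
      (Groth.L17.SectSupp.incl U F).hom.app (op V) s =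
        CohFree.evalGen (Opens.grothendieckTopology X) V F (π ≫ ψ) :=
    fun F ψ => Groth.L17.SectSupp.exists_incl_app_eq U F V _ (by
      refine (CohFree.evalGen_freeSheafMap_comp _ _ _ _).symm.trans ?_
      rw [cokernel.condition_assoc, zero_comp, map_zero])
  choose f hf using hval
  have hadd : ∀ (F : CohTop.Ab X) (a b : LocCohZ.zq (inf_le_left : V ⊓ U ≤ V) ⟶ F), f F (a + b) = f F a + f F b :=
    fun F a b => Groth.L17.SectSupp.incl_app_injective U F V (by
      rw [map_add, hf, hf, hf, Preadditive.comp_add, map_add])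
  have hbij : ∀ F, Function.Bijective (f F) := fun F => by
    refine ⟨fun a b h => ?_, fun s => ?_⟩
    · apply (cancel_epi π).1
      rw [← CohFree.ofSect_evalGen _ V F (π ≫ a), ← CohFree.ofSect_evalGen _ V F (π ≫ b), ← hf, ← hf, h]
    · refine ⟨cokernel.desc _ (CohFree.ofSect _ V F ((Groth.L17.SectSupp.incl U F).hom.app (op V) s)) ?_,
        Groth.L17.SectSupp.incl_app_injective U F V ?_⟩
      · rw [← CohFree.ofSect_evalGen (Opens.grothendieckTopology X) (V ⊓ U) F (_ ≫ _),
          CohFree.evalGen_freeSheafMap_comp, CohFree.evalGen_ofSect,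
          show (F.obj.map (homOfLE (inf_le_left : V ⊓ U ≤ V)).op).hom
              ((Groth.L17.SectSupp.incl U F).hom.app (op V) s) = 0 from
            Groth.L17.SectSupp.incl_app_mem U F V s,
          ← (CohFree.evalGen (Opens.grothendieckTopology X) (V ⊓ U) F).map_zero, CohFree.ofSect_evalGen]
      · rw [hf]
        simp only [π, cokernel.π_desc, CohFree.evalGen_ofSect]
  let e : ∀ F : CohTop.Ab X,
      (LocCohZ.zq (inf_le_left : V ⊓ U ≤ V) ⟶ F) ≃+ ((LocCohZ.sectSuppF U).obj F).obj.obj (op V) :=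
    fun F => AddEquiv.ofBijective (AddMonoidHom.mk' (f F) (hadd F)) (hbij F)
  refine ⟨(NatIso.ofComponents (F := Groth.L17.GrothSS.homFun (LocCohZ.zq (inf_le_left : V ⊓ U ≤ V)))
    (G := sectV U V) (fun F => AddEquiv.toAddCommGrpIso (e F)) fun {F G} φ => ?_).symm⟩
  ext (ψ : LocCohZ.zq (inf_le_left : V ⊓ U ≤ V) ⟶ F)
  apply Groth.L17.SectSupp.incl_app_injective U G V
  change (Groth.L17.SectSupp.incl U G).hom.app (op V) (f G (ψ ≫ φ)) =
    (Groth.L17.SectSupp.incl U G).hom.app (op V) (((LocCohZ.sectSuppF U).map φ).hom.app (op V) (f F ψ))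
  refine (hf G (ψ ≫ φ)).trans (Eq.trans ?_ (congrArg (fun g : (LocCohZ.sectSuppF U).obj F ⟶ G => (g.hom.app (op V)) (f F ψ)) (Groth.L17.SectSupp.incl_map U φ)).symm)
  change _ = φ.hom.app (op V) ((Groth.L17.SectSupp.incl U F).hom.app (op V) (f F ψ))
  rw [hf, ← Category.assoc]
  rfl

theorem nonempty_rightDerived_sectV_HZ (V : Opens X) (F : CohTop.Ab X) (i : ℕ) :
    Nonempty (((sectV U V).rightDerived i).obj F ≅
      AddCommGrpCat.of (LocCohZ.HZ F i (inf_le_left : V ⊓ U ≤ V))) := by
  letI := HasDerivedCategory.standard (CohTop.Ab X)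
  obtain ⟨e⟩ := exists_sectVIso U V
  obtain ⟨e'⟩ := Groth.L17.GrothSS.nonempty_rightDerived_homFun (LocCohZ.zq (inf_le_left : V ⊓ U ≤ V)) F i
  exact ⟨(Groth.L10.SiteCoh.rightDerivedCongr (F := sectV U V) e i).app F ≪≫ e'⟩

theorem isZero_HZsh_iff_subsingleton_HZ (F : CohTop.Ab X) (n : ℕ) :
    (∀ i, i < n → IsZero ((LocCohZ.HZsh U i).obj F)) ↔
      ∀ (V : Opens X) (i : ℕ), i < n → Subsingleton (LocCohZ.HZ F i (inf_le_left : V ⊓ U ≤ V)) := by
  constructor
  · intro h V i hi
    obtain ⟨e⟩ := nonempty_rightDerived_sectV_HZ U V F i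
    exact AddCommGrpCat.subsingleton_of_isZero (IsZero.of_iso (isZero_rightDerived_sectV U V F n h i hi) e.symm)
  · intro h i
    induction i using Nat.strong_induction_on with
    | _ i ih =>
      intro hi
      refine isZero_of_basis _ Set.univ
        (Opens.isBasis_iff_nbhd.2 fun {W x} hx => ⟨W, Set.mem_univ _, hx, le_rfl⟩) fun V _ => ?_
      obtain ⟨e⟩ := nonempty_rightDerived_sectV U V F i fun k hk => ih k hk (by omega)
      obtain ⟨e'⟩ := nonempty_rightDerived_sectV_HZ U V F i
      exact AddCommGrpCat.subsingleton_of_isZero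
        (IsZero.of_iso (@AddCommGrpCat.isZero_of_subsingleton _ (h V i hi)) (e.symm ≪≫ e'))

theorem res_bijective_of_subsingleton_HZ (F : CohTop.Ab X) (i : ℕ) {W V : Opens X} (h : W ≤ V) :
    (Subsingleton (LocCohZ.HZ F i h) → Function.Injective (CohTop.res F i h)) ∧
    (Subsingleton (LocCohZ.HZ F (i + 1) h) → Function.Surjective (CohTop.res F i h)) := by
  refine ⟨fun hs => (injective_iff_map_eq_zero _).2 fun x hx => ?_, fun hs x => ?_⟩
  · obtain ⟨y, hy⟩ := Ext.contravariant_sequence_exact₂ (LocCohZ.zqSeq_shortExact h) F (n := i) x hx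
    refine hy.symm.trans ?_
    rw [@Subsingleton.elim _ hs y 0]
    exact map_zero ((Ext.mk₀ (LocCohZ.zqSeq h).g).precomp F (zero_add i))
  · have hS : (LocCohZ.zqSeq h).ShortExact := LocCohZ.zqSeq_shortExact h
    let x' : Ext (LocCohZ.zqSeq h).X₁ F i := x
    have hx : hS.extClass.comp x' (add_comm 1 i) = 0 := @Subsingleton.elim (LocCohZ.HZ F (i + 1) h) hs _ _
    obtain ⟨y, hy⟩ := Ext.contravariant_sequence_exact₁ hS F x' (add_comm 1 i) hx
    exact ⟨y, hy⟩

end Groth.L04.SupportSh
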