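import Groth.Agent.L04.SupportSh.Sections
import Groth.Agent.L04.SupportSh.DepthStalk
import Groth.Agent.L04.Koszul.Punctured
import Groth.Agent.L04.LC.Depth
import Groth.Agent.L17.AffineVanishing

/-!
# Depth along the complement of an open on an affine open
-/

set_option autoImplicit false
set_option backward.isDefEq.respectTransparency false

universe u

open CategoryTheory CategoryTheory.Limits Opposite TopologicalSpace AlgebraicGeometry

namespace Groth.L04.SupportSh

section Spec

variable {A : Type u} [CommRing A] [IsNoetherianRing A] (I : Ideal A) (N : ModuleCat.{u} A)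

theorem forall_H_punctured_iff (n : ℕ) :
    (∀ i < n, Subsingleton (LocCoh.H I i N)) ↔
      (0 < n → Function.Injective ((Coh.toAb (tilde (R := CommRingCat.of A) N)).obj.map
          (homOfLE (le_top : LocCoh.puncturedOpen A I ≤ ⊤)).op)) ∧
      (1 < n → Function.Surjective ((Coh.toAb (tilde (R := CommRingCat.of A) N)).obj.map
          (homOfLE (le_top : LocCoh.puncturedOpen A I ≤ ⊤)).op)) ∧
      ∀ p, 1 ≤ p → p + 1 < n → Subsingleton
        (Coh.HHon (Spec (CommRingCat.of A)) (tilde (R := CommRingCat.of A) N) (LocCoh.puncturedOpen A I) p) := by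
  obtain ⟨hker, ⟨b⟩⟩ := Groth.L04.Koszul.Cech.exists_toOpen_punctured I N
  let τ := (tilde.toOpen (R := CommRingCat.of A) N ⊤)
  let T := (tilde.toOpen (R := CommRingCat.of A) N (LocCoh.puncturedOpen A I)).hom
  let r := (Coh.toAb (tilde (R := CommRingCat.of A) N)).obj.map (homOfLE (le_top : LocCoh.puncturedOpen A I ≤ ⊤)).op
  have hτ : Function.Bijective τ.hom :=
    (@asIso _ _ _ _ τ (tilde.isIso_toOpen_top (R := CommRingCat.of A) (M := N))).toLinearEquiv.bijective
  have hT : ∀ m, T m = r (τ.hom m) := fun m =>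
    (congrArg (fun φ : N ⟶ _ => φ.hom m) (tilde.toOpen_res (R := CommRingCat.of A) N ⊤ _ (homOfLE le_top))).symm
  have h0 : Subsingleton (LocCoh.H I 0 N) ↔ Function.Injective r := by
    rw [Groth.L04.LC.subsingleton_H0_iff, ← hker, LinearMap.ker_eq_bot]
    constructor
    · intro h a b hab
      obtain ⟨a, rfl⟩ := hτ.2 a
      obtain ⟨b, rfl⟩ := hτ.2 b
      rw [h ((hT a).trans (hab.trans (hT b).symm))]
    · intro h a b hab
      exact hτ.1 (h ((hT a).symm.trans (hab.trans (hT b))))
  have h1 : Subsingleton (LocCoh.H I 1 N) ↔ Function.Surjective r := by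
    rw [show Subsingleton (LocCoh.H I 1 N) ↔ _ from b.symm.toEquiv.subsingleton_congr,
      Submodule.Quotient.subsingleton_iff, LinearMap.range_eq_top]
    constructor
    · intro h y
      obtain ⟨m, hm⟩ := h y
      exact ⟨τ.hom m, (hT m).symm.trans hm⟩
    · intro h y
      obtain ⟨x, hx⟩ := h y
      obtain ⟨m, rfl⟩ := hτ.2 x
      exact ⟨m, (hT m).trans hx⟩
  have h2 : ∀ p, 1 ≤ p → (Subsingleton (LocCoh.H I (p + 1) N) ↔ Subsingleton
      (Coh.HHon (Spec (CommRingCat.of A)) (tilde (R := CommRingCat.of A) N) (LocCoh.puncturedOpen A I) p)) :=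
    fun p hp => by
      obtain ⟨e⟩ := Groth.L04.Koszul.Cech.nonempty_hhon_punctured_localCohomology I N p hp
      exact e.toEquiv.subsingleton_congr.symm
  refine ⟨fun h => ⟨fun hn => h0.1 (h 0 hn), fun hn => h1.1 (h 1 hn), fun p hp hpn => (h2 p hp).1 (h _ hpn)⟩, ?_⟩
  rintro ⟨g0, g1, g2⟩ i hi
  obtain _ | _ | i := i
  · exact h0.2 (g0 hi)
  · exact h1.2 (g1 hi)
  · exact (h2 (i + 1) (by omega)).2 (g2 (i + 1) (by omega) hi)

end Spec

variable {X : Scheme.{u}} (U : X.Opens) (M : X.Modules)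

theorem res_congr (F : CohTop.Ab X.toTopCat) {P Q P' Q' : Opens X.toTopCat} (hP : P = P') (hQ : Q = Q')
    (h : Q ≤ P) (h' : Q' ≤ P') :
    (Function.Injective (F.obj.map (homOfLE h).op) ↔ Function.Injective (F.obj.map (homOfLE h').op)) ∧
    (Function.Surjective (F.obj.map (homOfLE h).op) ↔ Function.Surjective (F.obj.map (homOfLE h').op)) := by
  subst hP hQ
  exact ⟨Iff.rfl, Iff.rfl⟩

theorem res_iso_congr {Y : TopCat.{u}} {F G : CohTop.Ab Y} (e : F ≅ G) {P Q : Opens Y} (h : Q ≤ P) :
    (Function.Injective (F.obj.map (homOfLE h).op) ↔ Function.Injective (G.obj.map (homOfLE h).op)) ∧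
    (Function.Surjective (F.obj.map (homOfLE h).op) ↔ Function.Surjective (G.obj.map (homOfLE h).op)) := by
  let a := fun W : Opens Y => (((sheafToPresheaf _ _).mapIso e).app (op W)).addCommGroupIsoToAddEquiv
  have hn : ∀ s, G.obj.map (homOfLE h).op (a P s) = a Q (F.obj.map (homOfLE h).op s) := fun s =>
    congr($(e.hom.hom.naturality (homOfLE h).op) s).symm
  have key : ⇑(G.obj.map (homOfLE h).op) ∘ ⇑(a P) = ⇑(a Q) ∘ ⇑(F.obj.map (homOfLE h).op) := funext hn
  refine ⟨?_, ?_⟩
  ·
    constructor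
    · intro hf
      refine Function.Injective.of_comp_right (g := ⇑(a P)) ?_ (a P).surjective
      rw [key]
      exact (a Q).injective.comp hf
    · intro hg
      refine Function.Injective.of_comp (f := ⇑(a Q)) ?_
      rw [← key]
      exact hg.comp (a P).injective
  · constructor
    · intro hf
      refine Function.Surjective.of_comp (g := ⇑(a P)) ?_
      rw [key]
      exact (a Q).surjective.comp hf
    · intro hg
      refine Function.Surjective.of_comp_left (f := ⇑(a Q)) ?_ (a Q).injective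
      rw [← key]
      exact hg.comp (a P).surjective

/-- On an affine open, the depth along the complement is detected by restriction and cohomology. -/
theorem depth_affine_iff [IsLocallyNoetherian X] (hM : Coh.IsCoh M) {V : X.Opens} (hV : IsAffineOpen V) (n : ℕ) :
    (∀ x ∈ V, x ∉ U → (n : ℕ∞) ≤ LocCoh.depth (X.presheaf.stalk x) (M.presheaf.stalk x)) ↔
      (0 < n → Function.Injective ((Coh.toAb M).obj.map (homOfLE (inf_le_left : V ⊓ U ≤ V)).op)) ∧
      (1 < n → Function.Surjective ((Coh.toAb M).obj.map (homOfLE (inf_le_left : V ⊓ U ≤ V)).op)) ∧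
      ∀ p, 1 ≤ p → p + 1 < n → Subsingleton (CohTop.HU (X := X.toTopCat) (Coh.toAb M) p (V ⊓ U)) := by
  haveI : Coh.IsQCoh M := hM.1
  haveI := IsLocallyNoetherian.component_noetherian ⟨V, hV⟩
  haveI := Groth.L20.ModStalk.finite_sections M hM hV
  let j := hV.fromSpec
  haveI : (M.restrict j).IsQuasicoherent := Scheme.Modules.isQuasicoherent_restrictFunctor j M
  let N : ModuleCat.{u} Γ(X, V) := (moduleSpecΓFunctor (R := Γ(X, V))).obj (M.restrict j)
  have e2 : j ''ᵁ (⊤ : (Spec Γ(X, V)).Opens) = V := by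
    rw [Scheme.Hom.image_top_eq_opensRange, hV.opensRange_fromSpec]
  let el : N →ₗ[Γ(X, V)] Γ(M, V) :=
    { toFun := fun s => Groth.L18.Frame.rs M e2.ge (show Γ(M, j ''ᵁ ⊤) from s)
      map_add' := fun a b => map_add (M.presheaf.map (homOfLE e2.ge).op).hom a b
      map_smul' := fun r s =>
        Groth.L20.ModStalk.finitePresentation_sections_affine.appIso_smul M hV r (show Γ(M, j ''ᵁ ⊤) from s) }
  have hel : Function.Bijective el := Function.bijective_iff_has_inverse.2
    ⟨fun t => (show Γ(M, j ''ᵁ ⊤) from Groth.L18.Frame.rs M e2.le t),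
      fun s => by
        show Groth.L18.Frame.rs M e2.le (Groth.L18.Frame.rs M e2.ge (show Γ(M, j ''ᵁ ⊤) from s)) = _
        rw [Groth.L18.Frame.rs_rs]
        exact Groth.L18.Frame.rs_self M _ _,
      fun t => by
        show Groth.L18.Frame.rs M e2.ge (Groth.L18.Frame.rs M e2.le t) = t
        rw [Groth.L18.Frame.rs_rs]
        exact Groth.L18.Frame.rs_self M _ _⟩
  haveI : Module.Finite Γ(X, V) N := Module.Finite.equiv (LinearEquiv.ofBijective el hel).symm
  let W : (Spec Γ(X, V)).Opens := j ⁻¹ᵁ U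
  let I : Ideal Γ(X, V) := PrimeSpectrum.vanishingIdeal (SetLike.coe W : Set (PrimeSpectrum Γ(X, V)))ᶜ
  have hI : W = LocCoh.puncturedOpen Γ(X, V) I := by
    apply Opens.ext
    show (SetLike.coe W : Set (PrimeSpectrum Γ(X, V))) = (PrimeSpectrum.zeroLocus (I : Set Γ(X, V)))ᶜ
    rw [show (I : Ideal Γ(X, V)) = _ from rfl, PrimeSpectrum.zeroLocus_vanishingIdeal_eq_closure,
      W.isOpen.isClosed_compl.closure_eq, compl_compl]
  have hdepth : (∀ x ∈ V, x ∉ U → (n : ℕ∞) ≤ LocCoh.depth (X.presheaf.stalk x) (M.presheaf.stalk x)) ↔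
      (n : ℕ∞) ≤ LocCoh.idealDepth I N := by
    rw [Groth.L04.idealDepth_congr (LinearEquiv.ofBijective el hel), Groth.L04.idealDepth_eq_iInf_depth,
      le_iInf₂_iff]
    have hmem : ∀ q : PrimeSpectrum Γ(X, V), I ≤ q.asIdeal ↔ j q ∉ U := fun q => by
      have : q ∈ PrimeSpectrum.zeroLocus (I : Set Γ(X, V)) ↔ q ∉ W := by
        rw [hI]
        exact not_not.symm
      exact this
    constructor
    · intro h q hq
      have hx : j q ∈ V := hV.opensRange_fromSpec.le ⟨q, rfl⟩
      have hqe : hV.primeIdealOf ⟨j q, hx⟩ = q :=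
        hV.fromSpec.isOpenEmbedding.injective (hV.fromSpec_primeIdealOf _)
      have h' := h (j q) hx ((hmem q).1 hq)
      rw [depth_stalk_eq M hM hV hx] at h'
      rwa [hqe] at h'
    · intro h x hx hxU
      rw [depth_stalk_eq M hM hV hx]
      exact h _ ((hmem _).2 (by rwa [hV.fromSpec_primeIdealOf ⟨x, hx⟩]))
  rw [hdepth, Groth.L04.LC.le_idealDepth_iff_H, forall_H_punctured_iff]
  haveI : IsIso (M.restrict j).fromTildeΓ :=
    Scheme.Modules.isIso_fromTildeΓ_of_isQuasicoherent (R := Γ(X, V)) _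
  let e : tilde N ≅ M.restrict j := asIso (M.restrict j).fromTildeΓ
  let eA : Coh.toAb (tilde (R := CommRingCat.of Γ(X, V)) N) ≅ Coh.toAb (M.restrict j) :=
    (SheafOfModules.toSheaf.{u} _).mapIso e
  have himg : j ''ᵁ W = V ⊓ U := by
    rw [Scheme.Hom.image_preimage_eq_opensRange_inf, hV.opensRange_fromSpec]
  obtain ⟨hi, hs⟩ := res_iso_congr eA (le_top : LocCoh.puncturedOpen Γ(X, V) I ≤ ⊤)
  obtain ⟨hi', hs'⟩ := res_congr (Coh.toAb M) e2 (show j ''ᵁ LocCoh.puncturedOpen Γ(X, V) I = V ⊓ U from hI ▸ himg)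
    (Scheme.Hom.image_mono j le_top) inf_le_left
  refine and_congr (imp_congr_right fun _ => hi.trans hi') (and_congr (imp_congr_right fun _ => hs.trans hs') ?_)
  refine forall_congr' fun p => imp_congr_right fun _ => imp_congr_right fun _ => ?_
  obtain ⟨a⟩ := Groth.L17.nonempty_hhon_equiv (tilde (R := CommRingCat.of Γ(X, V)) N) (LocCoh.puncturedOpen Γ(X, V) I) p
  obtain ⟨b⟩ := Groth.L17.nonempty_hu_image j (LocCoh.puncturedOpen Γ(X, V) I) (Coh.toAb M) p
  rw [show j ''ᵁ LocCoh.puncturedOpen Γ(X, V) I = V ⊓ U from hI ▸ himg] at b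
  refine a.toEquiv.subsingleton_congr.trans (Equiv.subsingleton_congr ?_)
  refine Equiv.trans ?_ b.symm.toEquiv
  exact { toFun := fun x => x.comp (Abelian.Ext.mk₀ eA.hom) (add_zero p)
          invFun := fun x => x.comp (Abelian.Ext.mk₀ eA.inv) (add_zero p)
          left_inv := fun x => by simp
          right_inv := fun x => by simp }

end Groth.L04.SupportSh
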