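import Groth.Agent.L17.SectSupp
import Groth.Agent.L10.InjOverRes
import Groth.Agent.L10.TopCoh
import Mathlib.Topology.Sheaves.Over
import Mathlib.CategoryTheory.Preadditive.Injective.Resolution
import Groth.Prelude.Def_RDer

/-!
# Restriction to an open subspace preserves injective sheaves
-/

set_option autoImplicit false
set_option backward.isDefEq.respectTransparency false

universe u

open CategoryTheory CategoryTheory.Limits Opposite TopologicalSpace

namespace Groth.L04.SupportSh

variable {X : TopCat.{u}} (U : Opens X)

theorem injective_restrFunctor (I : CohTop.Ab X) [Injective I] : Injective ((CohTop.restrFunctor U).obj I) := by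
  have h := Groth.L10.InjOverRes.injective_overPullback (Opens.grothendieckTopology X) U I
  have : Injective ((U.sheafEquivOver (A := AddCommGrpCat.{u})).functor.obj
      (((Opens.grothendieckTopology X).overPullback AddCommGrpCat.{u} U).obj I)) :=
    Injective.injective_of_adjoint (U.sheafEquivOver (A := AddCommGrpCat.{u})).symm.toAdjunction _
  exact Injective.of_iso ((U.overPullbackSheafEquivOver (A := AddCommGrpCat.{u})).app I) this

theorem injective_pull_incl (I : CohTop.Ab X) [Injective I] : Injective ((CohTop.pull (CohCx.incl U)).obj I) := by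
  let adj := TopCat.Sheaf.pullbackPushforwardAdjunction AddCommGrpCat.{u} (CohCx.incl U)
  let e := adj.leftAdjointUniq (Groth.L17.SectSupp.restrAdj U)
  exact Injective.of_iso (e.app I).symm (injective_restrFunctor U I)

instance preservesInjective_pull_incl : (CohTop.pull (CohCx.incl U)).PreservesInjectiveObjects where
  injective_obj {I} hI := injective_pull_incl U I

instance preservesFiniteLimits_pull {Y : TopCat.{u}} (f : X ⟶ Y) : PreservesFiniteLimits (CohTop.pull f) :=
  Groth.L10.TopCoh.pull_preservesFiniteLimits f

instance preservesFiniteColimits_pull {Y : TopCat.{u}} (f : X ⟶ Y) : PreservesFiniteColimits (CohTop.pull f) :=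
  have := (TopCat.Sheaf.pullbackPushforwardAdjunction AddCommGrpCat.{u} f).leftAdjoint_preservesColimits
  inferInstanceAs (PreservesFiniteColimits (TopCat.Sheaf.pullback AddCommGrpCat.{u} f))

instance preservesFiniteLimits_push {Y : TopCat.{u}} (f : X ⟶ Y) : PreservesFiniteLimits (CohTop.push f) :=
  have := (TopCat.Sheaf.pullbackPushforwardAdjunction AddCommGrpCat.{u} f).rightAdjoint_preservesLimits
  inferInstanceAs (PreservesFiniteLimits (TopCat.Sheaf.pushforward AddCommGrpCat.{u} f))

end Groth.L04.SupportSh

namespace Groth.L04.FunctorLES

universe v₁ v₂ v₃ u₁ u₂ u₃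

variable {A : Type u₁} [Category.{v₁} A] [Abelian A] [HasInjectiveResolutions A]
  {B : Type u₂} [Category.{v₂} B] [Abelian B] [HasInjectiveResolutions B]
  {C : Type u₃} [Category.{v₃} C] [Abelian C]

/-- An exact functor preserving injective objects maps resolutions to resolutions. -/
noncomputable def mapResolution (E : A ⥤ B) [E.Additive] [PreservesFiniteLimits E] [PreservesFiniteColimits E]
    [E.PreservesInjectiveObjects] {X : A} (I : InjectiveResolution X) : InjectiveResolution (E.obj X) where
  cocomplex := (E.mapHomologicalComplex _).obj I.cocomplex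
  injective n := E.injective_obj (I.cocomplex.X n)
  hasHomology _ := inferInstance
  ι := RDer.mapAug E I.ι
  quasiIso := by
    haveI : E.PreservesHomology := inferInstance
    haveI := HomologicalComplex.quasiIso_map_of_preservesHomology I.ι E
    dsimp only [RDer.mapAug]
    infer_instance

theorem mapResolution_ι_f_zero (E : A ⥤ B) [E.Additive] [PreservesFiniteLimits E] [PreservesFiniteColimits E]
    [E.PreservesInjectiveObjects] {X : A} (I : InjectiveResolution X) :
    (mapResolution E I).ι.f 0 = E.map (I.ι.f 0) := by
  simp [mapResolution, RDer.mapAug, HomologicalComplex.singleMapHomologicalComplex]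

/-- Derived functors of an exact injective-preserving functor followed by a functor. -/
theorem nonempty_precomp_iso (E : A ⥤ B) [E.Additive] [PreservesFiniteLimits E] [PreservesFiniteColimits E]
    [E.PreservesInjectiveObjects] (Ψ : B ⥤ C) [Ψ.Additive] (n : ℕ) :
    Nonempty ((E ⋙ Ψ).rightDerived n ≅ E ⋙ Ψ.rightDerived n) := by
  refine ⟨NatIso.ofComponents (fun X => (injectiveResolution X).isoRightDerivedObj (E ⋙ Ψ) n ≪≫
    ((mapResolution E (injectiveResolution X)).isoRightDerivedObj Ψ n).symm) fun {X Y} f => ?_⟩
  let g := InjectiveResolution.desc f (injectiveResolution Y) (injectiveResolution X)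
  have hg : (injectiveResolution X).ι.f 0 ≫ g.f 0 = f ≫ (injectiveResolution Y).ι.f 0 :=
    InjectiveResolution.desc_commutes_zero f _ _
  have hg' : (mapResolution E (injectiveResolution X)).ι.f 0 ≫ ((E.mapHomologicalComplex _).map g).f 0 =
      E.map f ≫ (mapResolution E (injectiveResolution Y)).ι.f 0 := by
    rw [mapResolution_ι_f_zero, mapResolution_ι_f_zero]
    exact (E.map_comp _ _).symm.trans ((congrArg E.map hg).trans (E.map_comp _ _))
  simp only [Iso.trans_hom, Iso.symm_hom, Functor.comp_map, Category.assoc]
  rw [InjectiveResolution.isoRightDerivedObj_hom_naturality_assoc f _ _ g hg (E ⋙ Ψ) n]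
  rw [InjectiveResolution.isoRightDerivedObj_inv_naturality (E.map f) (mapResolution E (injectiveResolution X))
    (mapResolution E (injectiveResolution Y)) ((E.mapHomologicalComplex _).map g) hg' Ψ n]
  rfl

end Groth.L04.FunctorLES
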