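import Groth.Agent.L04.SupportSh.Criteria

/-!
# Local cohomology of flasque sheaves
-/

set_option autoImplicit false
set_option backward.isDefEq.respectTransparency false

universe u

open CategoryTheory CategoryTheory.Limits Opposite TopologicalSpace CategoryTheory.Abelian

namespace Groth.L04.SupportSh

variable {X : TopCat.{u}}

theorem res_surjective_of_flasque (F : CohTop.Ab X) (hF : TopCat.Sheaf.IsFlasque F) (p : ℕ) {W V : Opens X}
    (h : W ≤ V) : Function.Surjective (CohTop.res F p h) := by
  cases p with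
  | zero =>
    exact (res_zero_bijective_iff F h).2.2 ((AddCommGrpCat.epi_iff_surjective _).1
      (TopCat.Presheaf.IsFlasque.epi (F := F.obj) (homOfLE h).op))
  | succ p =>
    have hs : Subsingleton (CohTop.HU F (p + 1) W) := Groth.L10.TopCoh.subsingleton_ext_of_flasque F hF W p
    exact fun y => ⟨0, @Subsingleton.elim _ hs _ _⟩

theorem subsingleton_HZ_of_flasque (F : CohTop.Ab X) (hF : TopCat.Sheaf.IsFlasque F) {W V : Opens X}
    (h : W ≤ V) (i : ℕ) : Subsingleton (LocCohZ.HZ F (i + 1) h) := by
  refine subsingleton_of_forall_eq 0 fun x => ?_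
  have hS : (LocCohZ.zqSeq h).ShortExact := LocCohZ.zqSeq_shortExact h
  let x' : Ext (LocCohZ.zqSeq h).X₃ F (i + 1) := x
  have hx : (Ext.mk₀ (LocCohZ.zqSeq h).g).comp x' (zero_add (i + 1)) = 0 :=
    @Subsingleton.elim (CohTop.HU F (i + 1) V) (Groth.L10.TopCoh.subsingleton_ext_of_flasque F hF V i) _ _
  obtain ⟨y, hy⟩ := Ext.contravariant_sequence_exact₃ hS F x' hx (n₀ := i) (add_comm 1 i)
  obtain ⟨z, rfl⟩ := res_surjective_of_flasque F hF i h y
  exact hy.symm.trans (hS.extClass_comp_assoc z)

end Groth.L04.SupportSh
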