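import Mathlib.CategoryTheory.Abelian.RightDerived
import Mathlib.Algebra.Homology.HomologySequenceLemmas
import Mathlib.Algebra.Homology.HomologicalComplexAbelian
import Mathlib.CategoryTheory.Limits.FunctorCategory.Basic
import Mathlib.CategoryTheory.Preadditive.FunctorCategory
import Groth.Prelude.Def_RDer

/-!
# The natural long exact sequence of a short exact sequence of functors on injective objects
-/

set_option autoImplicit false
set_option backward.isDefEq.respectTransparency.types false

universe v u v' u'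

open CategoryTheory CategoryTheory.Limits

namespace Groth.L04.FunctorLES

variable {C : Type u} [Category.{v} C] [Abelian C] [HasInjectiveResolutions C]
  {D : Type u'} [Category.{v'} D] [Abelian D]
  {F₁ F₂ F₃ : C ⥤ D} [F₁.Additive] [F₂.Additive] [F₃.Additive]

omit [Abelian D] in
theorem conj_comp {A B A' B' : D} (a : A ≅ A') (b : B ≅ B') (m : A' ⟶ B') :
    (a.hom ≫ m ≫ b.inv) ≫ b.hom = a.hom ≫ m := by simp

theorem conj_comp_zero {A B E A' B' E' : D} (a : A ≅ A') (b : B ≅ B') (c : E ≅ E') (m : A' ⟶ B') (k : B' ⟶ E')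
    (h : m ≫ k = 0) : (a.hom ≫ m ≫ b.inv) ≫ b.hom ≫ k ≫ c.inv = 0 := by simp [reassoc_of% h]

/-- A short exact sequence of functors on injective objects gives natural connecting maps. -/
theorem exists_δ (φ : F₁ ⟶ F₂) (ψ : F₂ ⟶ F₃) (w : ∀ X, φ.app X ≫ ψ.app X = 0)
    (hex : ∀ I : C, Injective I → (ShortComplex.mk (φ.app I) (ψ.app I) (w I)).ShortExact) (n : ℕ) :
    ∃ δ : F₃.rightDerived n ⟶ F₁.rightDerived (n + 1), ∀ X : C,
      (∃ h : (NatTrans.rightDerived ψ n).app X ≫ δ.app X = 0, (ShortComplex.mk _ _ h).Exact) ∧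
        ∃ h : δ.app X ≫ (NatTrans.rightDerived φ (n + 1)).app X = 0, (ShortComplex.mk _ _ h).Exact := by
  let S : ∀ X : C, ShortComplex (CochainComplex D ℕ) := fun X => ShortComplex.mk
    ((NatTrans.mapHomologicalComplex φ (.up ℕ)).app (injectiveResolution X).cocomplex)
    ((NatTrans.mapHomologicalComplex ψ (.up ℕ)).app (injectiveResolution X).cocomplex) (by
      ext i
      exact w _)
  have hS : ∀ X, (S X).ShortExact := fun X =>
    HomologicalComplex.shortExact_of_degreewise_shortExact (S X) fun i => hex _ ((injectiveResolution X).injective i)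
  have hij : (ComplexShape.up ℕ).Rel n (n + 1) := rfl
  let d : ∀ X, (F₃.rightDerived n).obj X ⟶ (F₁.rightDerived (n + 1)).obj X := fun X =>
    ((injectiveResolution X).isoRightDerivedObj F₃ n).hom ≫ (hS X).δ n (n + 1) hij ≫
      ((injectiveResolution X).isoRightDerivedObj F₁ (n + 1)).inv
  refine ⟨{ app := d, naturality := ?_ }, fun X => ?_⟩
  · intro X Y f
    let g := InjectiveResolution.desc f (injectiveResolution Y) (injectiveResolution X)
    have hg : (injectiveResolution X).ι.f 0 ≫ g.f 0 = f ≫ (injectiveResolution Y).ι.f 0 := InjectiveResolution.desc_commutes_zero f _ _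
    let m : S X ⟶ S Y := ShortComplex.homMk ((F₁.mapHomologicalComplex _).map g)
      ((F₂.mapHomologicalComplex _).map g) ((F₃.mapHomologicalComplex _).map g)
      (NatTrans.mapHomologicalComplex_naturality φ g) (NatTrans.mapHomologicalComplex_naturality ψ g)
    have hn := HomologicalComplex.HomologySequence.δ_naturality m (hS X) (hS Y) n (n + 1) hij
    simp only [d]
    rw [InjectiveResolution.isoRightDerivedObj_hom_naturality_assoc f _ _ g hg F₃ n]
    simp only [Category.assoc]
    erw [InjectiveResolution.isoRightDerivedObj_inv_naturality f _ _ g hg F₁ (n + 1)]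
    exact congrArg (fun x => ((injectiveResolution X).isoRightDerivedObj F₃ n).hom ≫ x)
      ((Category.assoc _ _ _).symm.trans ((congrArg (· ≫ _) hn.symm).trans (Category.assoc _ _ _)))
  · have hψ := InjectiveResolution.rightDerived_app_eq ψ (injectiveResolution X) n
    have hφ := InjectiveResolution.rightDerived_app_eq φ (injectiveResolution X) (n + 1)
    have h3 : (NatTrans.rightDerived ψ n).app X ≫ d X = 0 :=
      (congrArg (· ≫ d X) hψ).trans (conj_comp_zero _ _ _ _ _ ((hS X).comp_δ n (n + 1) hij))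
    have h1 : d X ≫ (NatTrans.rightDerived φ (n + 1)).app X = 0 :=
      (congrArg (d X ≫ ·) hφ).trans (conj_comp_zero _ _ _ _ _ ((hS X).δ_comp n (n + 1) hij))
    refine ⟨⟨h3, ?_⟩, h1, ?_⟩
    · refine (ShortComplex.exact_iff_of_iso ?_).2 ((hS X).homology_exact₃ n (n + 1) hij)
      refine ShortComplex.isoMk ((injectiveResolution X).isoRightDerivedObj F₂ n)
        ((injectiveResolution X).isoRightDerivedObj F₃ n) ((injectiveResolution X).isoRightDerivedObj F₁ (n + 1)) ?_ ?_
      · exact ((congrArg (· ≫ _) hψ).trans (conj_comp _ _ _)).symm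
      · exact (conj_comp _ _ _).symm
    · refine (ShortComplex.exact_iff_of_iso ?_).2 ((hS X).homology_exact₁ n (n + 1) hij)
      refine ShortComplex.isoMk ((injectiveResolution X).isoRightDerivedObj F₃ n)
        ((injectiveResolution X).isoRightDerivedObj F₁ (n + 1)) ((injectiveResolution X).isoRightDerivedObj F₂ (n + 1)) ?_ ?_
      · exact (conj_comp _ _ _).symm
      · exact ((congrArg (· ≫ _) hφ).trans (conj_comp _ _ _)).symm

/-- A connecting map with vanishing neighbours is a natural isomorphism. -/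
theorem nonempty_iso_succ (φ : F₁ ⟶ F₂) (ψ : F₂ ⟶ F₃) (w : ∀ X, φ.app X ≫ ψ.app X = 0)
    (hex : ∀ I : C, Injective I → (ShortComplex.mk (φ.app I) (ψ.app I) (w I)).ShortExact) (n : ℕ)
    (h0 : ∀ X, IsZero ((F₂.rightDerived n).obj X)) (h1 : ∀ X, IsZero ((F₂.rightDerived (n + 1)).obj X)) :
    Nonempty (F₃.rightDerived n ≅ F₁.rightDerived (n + 1)) := by
  obtain ⟨δ, hδ⟩ := exists_δ φ ψ w hex n
  have : ∀ X, IsIso (δ.app X) := fun X => by
    obtain ⟨⟨h, he⟩, h', he'⟩ := hδ X
    haveI : Mono (δ.app X) := he.mono_g ((h0 X).eq_of_src _ _)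
    haveI : Epi (δ.app X) := he'.epi_f ((h1 X).eq_of_tgt _ _)
    exact isIso_of_mono_of_epi _
  exact ⟨@asIso _ _ _ _ δ (NatIso.isIso_of_isIso_app δ)⟩

theorem toRightDerivedZero_rightDerived (α : F₁ ⟶ F₂) (X : C) :
    F₁.toRightDerivedZero.app X ≫ (NatTrans.rightDerived α 0).app X = α.app X ≫ F₂.toRightDerivedZero.app X := by
  rw [(injectiveResolution X).toRightDerivedZero_eq F₁, (injectiveResolution X).toRightDerivedZero_eq F₂,
    InjectiveResolution.rightDerived_app_eq α (injectiveResolution X) 0]
  simp only [Category.assoc]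
  erw [Iso.inv_hom_id_assoc]
  simp only [HomologicalComplex.homologyFunctor_map, RDer.isoHomologyπ₀_hom_eq]
  erw [HomologicalComplex.homologyπ_naturality_assoc]
  rw [RDer.toRightDerivedZero'_cyclesMap_assoc]

/-- Degree zero of a sequence of functors that is left exact at an object. -/
theorem nonempty_iso_zero [PreservesFiniteLimits F₂] [PreservesFiniteLimits F₃]
    (φ : F₁ ⟶ F₂) (ψ : F₂ ⟶ F₃) (w : ∀ X, φ.app X ≫ ψ.app X = 0)
    (hex : ∀ I : C, Injective I → (ShortComplex.mk (φ.app I) (ψ.app I) (w I)).ShortExact)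
    (M : C) (hM : (ShortComplex.mk (φ.app M) (ψ.app M) (w M)).Exact) [Mono (φ.app M)] :
    Nonempty ((F₁.rightDerived 0).obj M ≅ F₁.obj M) := by
  let I := injectiveResolution M
  let S : ShortComplex (CochainComplex D ℕ) := ShortComplex.mk
    ((NatTrans.mapHomologicalComplex φ (.up ℕ)).app I.cocomplex)
    ((NatTrans.mapHomologicalComplex ψ (.up ℕ)).app I.cocomplex) (by
      ext i
      exact w _)
  have hS : S.ShortExact :=
    HomologicalComplex.shortExact_of_degreewise_shortExact S fun i => hex _ (I.injective i)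
  haveI hf : Mono (HomologicalComplex.homologyMap S.f 0) := by
    haveI : Mono (S.f.f 0) := (hex _ (I.injective 0)).mono_f
    haveI : Mono (HomologicalComplex.cyclesMap S.f 0) := by
      refine @mono_of_mono _ _ _ _ _ _ (S.X₂.iCycles 0) ?_
      rw [HomologicalComplex.cyclesMap_i]
      infer_instance
    have e : HomologicalComplex.homologyMap S.f 0 =
        inv (S.X₁.homologyπ 0) ≫ HomologicalComplex.cyclesMap S.f 0 ≫ S.X₂.homologyπ 0 := by
      rw [← HomologicalComplex.homologyπ_naturality, IsIso.inv_hom_id_assoc]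
    rw [e]
    infer_instance
  let e₂ := asIso (F₂.toRightDerivedZero.app M) ≪≫ I.isoRightDerivedObj F₂ 0
  let e₃ := asIso (F₃.toRightDerivedZero.app M) ≪≫ I.isoRightDerivedObj F₃ 0
  have hc : ψ.app M ≫ e₃.hom = e₂.hom ≫ HomologicalComplex.homologyMap S.g 0 := by
    have hψ := InjectiveResolution.rightDerived_app_eq ψ I 0
    simp only [e₂, e₃, Iso.trans_hom, asIso_hom, ← Category.assoc]
    rw [← toRightDerivedZero_rightDerived ψ M]
    simp only [Category.assoc]
    exact congrArg (fun x => F₂.toRightDerivedZero.app M ≫ x) ((congrArg (· ≫ _) hψ).trans (conj_comp _ _ _))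
  exact ⟨I.isoRightDerivedObj F₁ 0 ≪≫ (hS.homology_exact₂ 0).fIsKernel.conePointUniqueUpToIso (kernelIsKernel _) ≪≫
    (kernel.mapIso (ψ.app M) _ e₂ e₃ hc).symm ≪≫ (kernelIsKernel _).conePointUniqueUpToIso hM.fIsKernel⟩

/-- The first derived functor of the kernel functor is the cokernel. -/
theorem nonempty_iso_cokernel [PreservesFiniteLimits F₂] [PreservesFiniteLimits F₃]
    (φ : F₁ ⟶ F₂) (ψ : F₂ ⟶ F₃) (w : ∀ X, φ.app X ≫ ψ.app X = 0)
    (hex : ∀ I : C, Injective I → (ShortComplex.mk (φ.app I) (ψ.app I) (w I)).ShortExact)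
    [HasCokernel ψ] (h1 : ∀ X, IsZero ((F₂.rightDerived 1).obj X)) :
    Nonempty (F₁.rightDerived 1 ≅ cokernel ψ) := by
  obtain ⟨δ, hδ⟩ := exists_δ φ ψ w hex 0
  let π : F₃ ⟶ F₁.rightDerived 1 := F₃.toRightDerivedZero ≫ δ
  have hzero : ∀ X, ψ.app X ≫ π.app X = 0 := fun X => by
    obtain ⟨⟨h, -⟩, -⟩ := hδ X
    simp only [π, NatTrans.comp_app]
    rw [← Category.assoc, ← toRightDerivedZero_rightDerived ψ X, Category.assoc, h, comp_zero]
  have hex' : ∀ X, (ShortComplex.mk (ψ.app X) (π.app X) (hzero X)).Exact ∧ Epi (π.app X) := fun X => by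
    obtain ⟨⟨h, he⟩, h', he'⟩ := hδ X
    haveI : Epi (δ.app X) := he'.epi_f ((h1 X).eq_of_tgt _ _)
    refine ⟨(ShortComplex.exact_iff_of_iso ?_).1 he, inferInstanceAs (Epi (F₃.toRightDerivedZero.app X ≫ δ.app X))⟩
    refine (ShortComplex.isoMk (S₁ := ShortComplex.mk (ψ.app X) (π.app X) (hzero X))
      (S₂ := ShortComplex.mk _ _ h) (asIso (F₂.toRightDerivedZero.app X)) (asIso (F₃.toRightDerivedZero.app X))
      (Iso.refl _) ?_ ?_).symm
    · exact toRightDerivedZero_rightDerived ψ X
    · simp [π]
  have hπ : ψ ≫ π = 0 := NatTrans.ext (funext hzero)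
  have hcol : IsColimit (CokernelCofork.ofπ π hπ) :=
    CokernelCofork.IsColimit.ofπ _ hπ
      (fun {Z} g hg => { app := fun X =>
                          haveI := (hex' X).2
                          (hex' X).1.desc (g.app X) (by exact NatTrans.congr_app hg X)
                         naturality := fun X Y f => by
                          haveI := (hex' X).2
                          haveI := (hex' Y).2
                          rw [← cancel_epi (π.app X)]
                          erw [← reassoc_of% π.naturality f, (hex' Y).1.g_desc, g.naturality,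
                            reassoc_of% (hex' X).1.g_desc] })
      (fun {Z} g hg => NatTrans.ext (funext fun X =>
        haveI := (hex' X).2
        (hex' X).1.g_desc _ _))
      (fun {Z} g hg m hm => NatTrans.ext (funext fun X => by
        haveI := (hex' X).2
        rw [← cancel_epi (π.app X)]
        exact (NatTrans.congr_app hm X).trans ((hex' X).1.g_desc _ _).symm))
  exact ⟨hcol.coconePointUniqueUpToIso (colimit.isColimit _)⟩

end Groth.L04.FunctorLES
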