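import Groth.Agent.L04.SupportSh.Affine
import Groth.Agent.L04.SupportSh.Criteria
import Groth.Agent.L04.LC.Vanish
import Groth.Agent.L04.LC.Change

/-!
# Surjectivity of restrictions on affine opens, and vanishing above the dimension
-/

set_option autoImplicit false
set_option backward.isDefEq.respectTransparency false

universe u

open CategoryTheory CategoryTheory.Limits Opposite TopologicalSpace AlgebraicGeometry

namespace Groth.L04.SupportSh

theorem cdLE_of_primes {A : Type u} [CommRing A] [IsNoetherianRing A] (I : Ideal A) (d : ℕ)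
    (h : ∀ (q : Ideal A) [q.IsPrime], I ≤ q → ringKrullDim (Localization.AtPrime q) ≤ d) :
    LocCoh.CdLE A I d := by
  refine (Groth.L04.LC.cdLE_iff_atPrime I d).2 fun q _ => ?_
  haveI : IsNoetherianRing (Localization.AtPrime q) :=
    IsLocalization.isNoetherianRing q.primeCompl _ inferInstance
  by_cases hq : I ≤ q
  · intro N _ _ i hi
    exact Groth.L04.LC.cdLE_of_ringKrullDim_le (R := Localization.AtPrime q) (I.map (algebraMap A (Localization.AtPrime q))) d (h q hq) N i hi
  · intro N _ _ i hi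
    obtain ⟨a, ha, haq⟩ := SetLike.not_le_iff_exists.1 hq
    refine Groth.L04.LC.subsingleton_H_of_bijective _ i (r := (1 : Localization.AtPrime q)) ?_ ?_
    · rw [Ideal.eq_top_of_isUnit_mem _ (Ideal.mem_map_of_mem _ ha)
        (IsLocalization.map_units (Localization.AtPrime q) (⟨a, haq⟩ : q.primeCompl))]
      trivial
    · simp only [one_smul]
      exact Function.bijective_id

section Spec

variable {A : Type u} [CommRing A] [IsNoetherianRing A] (I : Ideal A) (N : ModuleCat.{u} A)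

theorem punctured_surjective_of_H_one (h : Subsingleton (LocCoh.H I 1 N)) :
    Function.Surjective ((Coh.toAb (tilde (R := CommRingCat.of A) N)).obj.map
      (homOfLE (le_top : LocCoh.puncturedOpen A I ≤ ⊤)).op) := by
  obtain ⟨-, ⟨b⟩⟩ := Groth.L04.Koszul.Cech.exists_toOpen_punctured I N
  let τ := (tilde.toOpen (R := CommRingCat.of A) N ⊤)
  let T := (tilde.toOpen (R := CommRingCat.of A) N (LocCoh.puncturedOpen A I)).hom
  let r := (Coh.toAb (tilde (R := CommRingCat.of A) N)).obj.map (homOfLE (le_top : LocCoh.puncturedOpen A I ≤ ⊤)).op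
  have hτ : Function.Bijective τ.hom :=
    (@asIso _ _ _ _ τ (tilde.isIso_toOpen_top (R := CommRingCat.of A) (M := N))).toLinearEquiv.bijective
  have hT : ∀ m, T m = r (τ.hom m) := fun m =>
    (congrArg (fun φ : N ⟶ _ => φ.hom m) (tilde.toOpen_res (R := CommRingCat.of A) N ⊤ _ (homOfLE le_top))).symm
  rw [show Subsingleton (LocCoh.H I 1 N) ↔ _ from b.symm.toEquiv.subsingleton_congr,
    Submodule.Quotient.subsingleton_iff, LinearMap.range_eq_top] at h
  intro y
  obtain ⟨m, hm⟩ := h y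
  exact ⟨τ.hom m, (hT m).symm.trans hm⟩

end Spec

variable {X : Scheme.{u}} (U : X.Opens) (M : X.Modules)

theorem res_affine_surjective [IsLocallyNoetherian X] (hM : Coh.IsQCoh M) {V : X.Opens} (hV : IsAffineOpen V)
    (p : ℕ) (hdim : ∀ x : X, x ∉ U → ringKrullDim (X.presheaf.stalk x) ≤ (p : WithBot ℕ∞)) :
    Function.Surjective (CohTop.res (X := X.toTopCat) (Coh.toAb M) p (inf_le_left : V ⊓ U ≤ V)) := by
  haveI : Coh.IsQCoh M := hM
  haveI := IsLocallyNoetherian.component_noetherian ⟨V, hV⟩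
  let j := hV.fromSpec
  haveI : (M.restrict j).IsQuasicoherent := Scheme.Modules.isQuasicoherent_restrictFunctor j M
  let N : ModuleCat.{u} Γ(X, V) := (moduleSpecΓFunctor (R := Γ(X, V))).obj (M.restrict j)
  have e2 : j ''ᵁ (⊤ : (Spec Γ(X, V)).Opens) = V := by
    rw [Scheme.Hom.image_top_eq_opensRange, hV.opensRange_fromSpec]
  let W : (Spec Γ(X, V)).Opens := j ⁻¹ᵁ U
  let I : Ideal Γ(X, V) := PrimeSpectrum.vanishingIdeal (SetLike.coe W : Set (PrimeSpectrum Γ(X, V)))ᶜ
  have hI : W = LocCoh.puncturedOpen Γ(X, V) I := by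
    apply Opens.ext
    show (SetLike.coe W : Set (PrimeSpectrum Γ(X, V))) = (PrimeSpectrum.zeroLocus (I : Set Γ(X, V)))ᶜ
    rw [show (I : Ideal Γ(X, V)) = _ from rfl, PrimeSpectrum.zeroLocus_vanishingIdeal_eq_closure,
      W.isOpen.isClosed_compl.closure_eq, compl_compl]
  have hmem : ∀ q : PrimeSpectrum Γ(X, V), I ≤ q.asIdeal ↔ j q ∉ U := fun q => by
    have : q ∈ PrimeSpectrum.zeroLocus (I : Set Γ(X, V)) ↔ q ∉ W := by
      rw [hI]
      exact not_not.symm
    exact this
  have hcd : LocCoh.CdLE Γ(X, V) I p := cdLE_of_primes I p fun q _ hq => by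
    have hx : j ⟨q, inferInstance⟩ ∈ V := hV.opensRange_fromSpec.le ⟨_, rfl⟩
    have hqe : hV.primeIdealOf ⟨j ⟨q, inferInstance⟩, hx⟩ = ⟨q, inferInstance⟩ :=
      hV.fromSpec.isOpenEmbedding.injective (hV.fromSpec_primeIdealOf _)
    letI := X.presheaf.algebra_section_stalk ⟨j ⟨q, inferInstance⟩, hx⟩
    haveI : IsLocalization.AtPrime (X.presheaf.stalk (j ⟨q, inferInstance⟩)) q := by
      have h := hV.isLocalization_stalk ⟨j ⟨q, inferInstance⟩, hx⟩
      rw [hqe] at h
      exact h
    exact (ringKrullDim_eq_of_ringEquiv (IsLocalization.algEquiv q.primeCompl (Localization.AtPrime q)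
      (X.presheaf.stalk (j ⟨q, inferInstance⟩))).toRingEquiv).trans_le (hdim _ ((hmem ⟨q, inferInstance⟩).1 hq))
  have hH : Subsingleton (LocCoh.H I (p + 1) N) := hcd N (p + 1) (Nat.lt_succ_self p)
  haveI : IsIso (M.restrict j).fromTildeΓ :=
    Scheme.Modules.isIso_fromTildeΓ_of_isQuasicoherent (R := Γ(X, V)) _
  let e : tilde N ≅ M.restrict j := asIso (M.restrict j).fromTildeΓ
  let eA : Coh.toAb (tilde (R := CommRingCat.of Γ(X, V)) N) ≅ Coh.toAb (M.restrict j) :=
    (SheafOfModules.toSheaf.{u} _).mapIso e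
  have himg : j ''ᵁ W = V ⊓ U := by
    rw [Scheme.Hom.image_preimage_eq_opensRange_inf, hV.opensRange_fromSpec]
  obtain _ | k := p
  · refine (res_zero_bijective_iff (X := X.toTopCat) (Coh.toAb M) _).2.2 ?_
    obtain ⟨-, hs⟩ := res_iso_congr eA (le_top : LocCoh.puncturedOpen Γ(X, V) I ≤ ⊤)
    obtain ⟨-, hs'⟩ := res_congr (Coh.toAb M) e2 (show j ''ᵁ LocCoh.puncturedOpen Γ(X, V) I = V ⊓ U from hI ▸ himg)
      (Scheme.Hom.image_mono j le_top) inf_le_left
    exact (hs.trans hs').1 (punctured_surjective_of_H_one I N hH)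
  obtain ⟨c⟩ := Groth.L04.Koszul.Cech.nonempty_hhon_punctured_localCohomology I N (k + 1) (by omega)
  have hpu : Subsingleton (Coh.HHon (Spec (CommRingCat.of Γ(X, V))) (tilde (R := CommRingCat.of Γ(X, V)) N)
    (LocCoh.puncturedOpen Γ(X, V) I) (k + 1)) := c.toEquiv.subsingleton_congr.2 hH
  suffices hs : Subsingleton (CohTop.HU (X := X.toTopCat) (Coh.toAb M) (k + 1) (V ⊓ U)) from
    fun y => ⟨0, @Subsingleton.elim _ hs _ _⟩
  obtain ⟨a⟩ := Groth.L17.nonempty_hhon_equiv (tilde (R := CommRingCat.of Γ(X, V)) N) (LocCoh.puncturedOpen Γ(X, V) I) (k + 1)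
  obtain ⟨b⟩ := Groth.L17.nonempty_hu_image j (LocCoh.puncturedOpen Γ(X, V) I) (Coh.toAb M) (k + 1)
  rw [show j ''ᵁ LocCoh.puncturedOpen Γ(X, V) I = V ⊓ U from hI ▸ himg] at b
  refine (a.toEquiv.subsingleton_congr.trans (Equiv.subsingleton_congr ?_)).1 hpu
  refine Equiv.trans ?_ b.symm.toEquiv
  exact { toFun := fun x => x.comp (Abelian.Ext.mk₀ eA.hom) (add_zero (k + 1))
          invFun := fun x => x.comp (Abelian.Ext.mk₀ eA.inv) (add_zero (k + 1))
          left_inv := fun x => by simp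
          right_inv := fun x => by simp }

end Groth.L04.SupportSh
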