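import Groth.Agent.L10.TopCoh
import Groth.Agent.L17.SectSupp
import Groth.Prelude.Def_RDer

/-!
# Sections of complexes of flasque sheaves exact in low degrees
-/

set_option autoImplicit false
set_option backward.isDefEq.respectTransparency false

universe u

open CategoryTheory CategoryTheory.Limits Opposite TopologicalSpace HomologicalComplex

namespace Groth.L04.SupportSh

variable {X : TopCat.{u}} (V : Opens X) (A : CochainComplex (CohTop.Ab X) ℕ)

/-- Sections over `V`. -/
noncomputable abbrev secV : CohTop.Ab X ⥤ AddCommGrpCat.{u} :=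
  Groth.L17.GrothSS.secFun (Opens.grothendieckTopology X) V

theorem exists_cycles_sect (q r : ℕ) (hr : q + 1 = r) (s : (secV V).obj (A.X q)) (hs : (secV V).map (A.d q r) s = 0) :
    ∃ z : (secV V).obj (A.cycles q), (secV V).map (A.iCycles q) z = s := by
  have hex := (ShortComplex.exact_of_f_is_kernel (ShortComplex.mk (A.iCycles q) (A.d q r) (A.iCycles_d q r))
    (A.cyclesIsKernel q r ((ComplexShape.up ℕ).next_eq' hr))).map_of_mono_of_preservesKernel (secV V)
      (inferInstanceAs (Mono (A.iCycles q))) inferInstance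
  rw [ShortComplex.ab_exact_iff] at hex
  exact hex s hs

theorem iCycles_toCycles (q : ℕ) : A.iCycles q ≫ A.toCycles q (q + 1) = 0 := by
  rw [← cancel_mono (A.iCycles (q + 1)), Category.assoc, toCycles_i, iCycles_d, zero_comp]

/-- The sequence `0 → Z^q → A^q → Z^{q+1}` is left exact. -/
theorem exact_iCycles_toCycles (q : ℕ) :
    (ShortComplex.mk (A.iCycles q) (A.toCycles q (q + 1)) (iCycles_toCycles A q)).Exact := by
  refine (ShortComplex.exact_iff_of_epi_of_isIso_of_mono
    (S₂ := ShortComplex.mk (A.iCycles q) (A.d q (q + 1)) (A.iCycles_d q (q + 1)))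
    (φ := { τ₁ := 𝟙 _, τ₂ := 𝟙 _, τ₃ := A.iCycles (q + 1), comm₁₂ := by simp,
            comm₂₃ := (Category.id_comp _).trans (A.toCycles_i q (q + 1)).symm }) (S₁ :=
      ShortComplex.mk (A.iCycles q) (A.toCycles q (q + 1)) (iCycles_toCycles A q))).2 ?_
  exact ShortComplex.exact_of_f_is_kernel _ (A.cyclesIsKernel q (q + 1) ((ComplexShape.up ℕ).next_eq' rfl))

theorem exact_toCycles_π (q : ℕ) :
    (ShortComplex.mk (A.toCycles q (q + 1)) (A.homologyπ (q + 1)) (A.toCycles_comp_homologyπ q (q + 1))).Exact :=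
  ShortComplex.exact_of_g_is_cokernel _ (A.homologyIsCokernel q (q + 1) ((ComplexShape.up ℕ).prev_eq' rfl))

theorem epi_toCycles (q : ℕ) (h : A.ExactAt (q + 1)) : Epi (A.toCycles q (q + 1)) :=
  (exact_toCycles_π A q).epi_f ((exactAt_iff_isZero_homology _ _).1 h |>.eq_of_tgt _ _)

theorem isFlasque_cycles (hA : ∀ q, TopCat.Sheaf.IsFlasque (A.X q)) (d : ℕ) (hd : ∀ q < d, A.ExactAt q) :
    ∀ q < d, TopCat.Sheaf.IsFlasque (A.cycles q) := by
  intro q
  induction q with
  | zero =>
    intro hq
    have hz : IsZero (A.cycles 0) :=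
      IsZero.of_iso ((exactAt_iff_isZero_homology _ _).1 (hd 0 hq)) A.isoHomologyπ₀
    refine ⟨fun {W W'} i => ?_⟩
    exact ((secV W'.unop).map_isZero hz).epi _
  | succ q ih =>
    intro hq
    haveI := ih (by omega)
    haveI := hA q
    haveI := epi_toCycles A q (hd (q + 1) hq)
    exact TopCat.Sheaf.IsFlasque.of_shortExact_of_isFlasque₁₂
      (ShortComplex.ShortExact.mk' (exact_iCycles_toCycles A q) inferInstance inferInstance)

/-- The key statement on sections: boundaries of sections are the sections of boundaries. -/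
theorem exists_toCycles_eq (hA : ∀ q, TopCat.Sheaf.IsFlasque (A.X q)) (q : ℕ)
    (hq : TopCat.Sheaf.IsFlasque (A.cycles q)) :
    (∀ z : (secV V).obj (A.cycles (q + 1)), (secV V).map (A.homologyπ (q + 1)) z = 0 →
      ∃ a, (secV V).map (A.toCycles q (q + 1)) a = z) ∧
    Function.Surjective ((secV V).map (A.homologyπ (q + 1))) := by
  haveI := hq
  haveI := hA q
  let m : cokernel (A.iCycles q) ⟶ A.cycles (q + 1) :=
    cokernel.desc _ (A.toCycles q (q + 1)) (iCycles_toCycles A q)
  haveI hm : Mono m := (exact_iCycles_toCycles A q).mono_cokernelDesc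
  let S₁ : ShortComplex (CohTop.Ab X) := ShortComplex.mk (A.iCycles q) (cokernel.π _) (cokernel.condition _)
  have hS₁ : S₁.ShortExact :=
    ShortComplex.ShortExact.mk' (ShortComplex.exact_of_g_is_cokernel _ (cokernelIsCokernel _))
      (inferInstanceAs (Mono (A.iCycles q))) (inferInstanceAs (Epi (cokernel.π _)))
  haveI hQ : TopCat.Sheaf.IsFlasque (cokernel (A.iCycles q)) := by
    haveI : TopCat.Sheaf.IsFlasque S₁.X₁ := hq
    haveI : TopCat.Sheaf.IsFlasque S₁.X₂ := hA q
    exact TopCat.Sheaf.IsFlasque.of_shortExact_of_isFlasque₁₂ hS₁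
  have hzero : m ≫ A.homologyπ (q + 1) = 0 := by
    rw [← cancel_epi (cokernel.π (A.iCycles q)), cokernel.π_desc_assoc, toCycles_comp_homologyπ, comp_zero]
  let S₂ : ShortComplex (CohTop.Ab X) := ShortComplex.mk m (A.homologyπ (q + 1)) hzero
  have hS₂ : S₂.ShortExact := by
    refine ShortComplex.ShortExact.mk' ?_ hm (inferInstanceAs (Epi (A.homologyπ (q + 1))))
    exact (ShortComplex.exact_iff_of_epi_of_isIso_of_mono
      (S₁ := ShortComplex.mk (A.toCycles q (q + 1)) (A.homologyπ (q + 1)) (A.toCycles_comp_homologyπ q (q + 1)))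
      (S₂ := S₂)
      { τ₁ := cokernel.π _, τ₂ := 𝟙 _, τ₃ := 𝟙 _, comm₁₂ := by simp [S₂, m], comm₂₃ := by simp [S₂] }).1
        (exact_toCycles_π A q)
  haveI : TopCat.Sheaf.IsFlasque S₂.X₁ := hQ
  refine ⟨fun z hz => ?_, (AddCommGrpCat.epi_iff_surjective _).1
    (TopCat.Sheaf.IsFlasque.epi_of_shortExact hS₂ (U := V))⟩
  obtain ⟨y, hy⟩ := TopCat.Sheaf.sections_exact_of_left_exact hS₂.1 hS₂.2 (U := V) z hz
  haveI : TopCat.Sheaf.IsFlasque S₁.X₁ := hq
  obtain ⟨a, ha⟩ := (AddCommGrpCat.epi_iff_surjective _).1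
    (TopCat.Sheaf.IsFlasque.epi_of_shortExact hS₁ (U := V)) y
  refine ⟨a, ?_⟩
  rw [← cokernel.π_desc (A.iCycles q) (A.toCycles q (q + 1)) (iCycles_toCycles A q), Functor.map_comp]
  exact (congrArg ((secV V).map m) ha).trans hy

theorem exactAt_sect (hA : ∀ q, TopCat.Sheaf.IsFlasque (A.X q)) (d : ℕ) (hd : ∀ q < d, A.ExactAt q)
    (q : ℕ) (hq : q < d) : (((secV V).mapHomologicalComplex _).obj A).ExactAt q := by
  obtain _ | q := q
  · rw [HomologicalComplex.exactAt_iff' _ 0 0 1 (CochainComplex.prev_nat_zero)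
      ((ComplexShape.up ℕ).next_eq' rfl), ShortComplex.ab_exact_iff]
    intro s hs
    refine ⟨0, ?_⟩
    obtain ⟨z, rfl⟩ := exists_cycles_sect V A 0 1 rfl s hs
    have hz : IsZero ((secV V).obj (A.cycles 0)) := (secV V).map_isZero
      (IsZero.of_iso ((exactAt_iff_isZero_homology _ _).1 (hd 0 hq)) A.isoHomologyπ₀)
    haveI := AddCommGrpCat.subsingleton_of_isZero hz
    rw [map_zero, Subsingleton.elim z 0]
    exact (map_zero _).symm
  · rw [HomologicalComplex.exactAt_iff' _ q (q + 1) (q + 2) ((ComplexShape.up ℕ).prev_eq' rfl)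
      ((ComplexShape.up ℕ).next_eq' rfl), ShortComplex.ab_exact_iff]
    intro s hs
    obtain ⟨z, rfl⟩ := exists_cycles_sect V A (q + 1) (q + 2) rfl s hs
    have hz : IsZero ((secV V).obj (A.homology (q + 1))) :=
      (secV V).map_isZero ((exactAt_iff_isZero_homology _ _).1 (hd (q + 1) hq))
    haveI := AddCommGrpCat.subsingleton_of_isZero hz
    obtain ⟨a, ha⟩ := (exists_toCycles_eq V A hA q (isFlasque_cycles A hA d hd q (by omega))).1 z (Subsingleton.elim _ _)
    refine ⟨a, ?_⟩
    refine Eq.trans ?_ (congrArg ((secV V).map (A.iCycles (q + 1))) ha)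
    change (secV V).map (A.d q (q + 1)) a = _
    rw [← A.toCycles_i q (q + 1), Functor.map_comp]
    rfl

theorem isIso_cyclesComparison (i : ℕ) : IsIso (RDer.cyclesComparison (secV V) A i) :=
  Iso.isIso_hom (IsLimit.conePointUniqueUpToIso
    ((((secV V).mapHomologicalComplex _).obj A).cyclesIsKernel i _ rfl)
    (KernelFork.mapIsLimit _ (A.cyclesIsKernel i ((ComplexShape.up ℕ).next i) rfl) (secV V)))

/-- The homology of the sections in the first non exact degree. -/
theorem isIso_homologyComparison (hA : ∀ q, TopCat.Sheaf.IsFlasque (A.X q)) (d : ℕ)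
    (hd : ∀ q < d, A.ExactAt q) : IsIso (RDer.homologyComparison (secV V) A d) := by
  haveI := isIso_cyclesComparison V A d
  obtain _ | q := d
  · have h := RDer.homologyπ_homologyComparison (secV V) A 0
    haveI : IsIso ((secV V).map (A.homologyπ 0)) := inferInstance
    exact IsIso.of_isIso_fac_left h
  · have hK := exists_toCycles_eq V A hA q (isFlasque_cycles A hA (q + 1) hd q (by omega))
    let e := asIso (RDer.cyclesComparison (secV V) A (q + 1))
    refine (ConcreteCategory.isIso_iff_bijective _).2 ⟨?_, ?_⟩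
    · intro x y hxy
      have hp := (AddCommGrpCat.epi_iff_surjective ((((secV V).mapHomologicalComplex _).obj A).homologyπ (q + 1))).1
        inferInstance
      obtain ⟨x', rfl⟩ := hp x
      obtain ⟨y', rfl⟩ := hp y
      rw [← sub_eq_zero, ← map_sub]
      have h0 : (secV V).map (A.homologyπ (q + 1)) (e.hom (x' - y')) = 0 := by
        rw [map_sub, map_sub, sub_eq_zero]
        have h := RDer.homologyπ_homologyComparison (secV V) A (q + 1)
        exact (congr($h x')).symm.trans (hxy.trans (congr($h y')))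
      obtain ⟨a, ha⟩ := hK.1 _ h0
      have : ((((secV V).mapHomologicalComplex _).obj A).toCycles q (q + 1)) a = x' - y' := by
        apply (AddCommGrpCat.mono_iff_injective e.hom).1 inferInstance
        refine Eq.trans ?_ ha
        have h := RDer.toCycles_cyclesComparison (secV V) A (q + 1)
        rw [(ComplexShape.up ℕ).prev_eq' (show q + 1 = q + 1 from rfl)] at h
        exact congr($h a)
      rw [← this]
      exact congr($((((secV V).mapHomologicalComplex _).obj A).toCycles_comp_homologyπ q (q + 1)) a)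
    · intro y
      obtain ⟨z, rfl⟩ := hK.2 y
      refine ⟨(((secV V).mapHomologicalComplex _).obj A).homologyπ (q + 1) (e.inv z), ?_⟩
      refine (congr($(RDer.homologyπ_homologyComparison (secV V) A (q + 1)) (e.inv z))).trans ?_
      exact congrArg ((secV V).map (A.homologyπ (q + 1))) (congr($(e.inv_hom_id) z))

end Groth.L04.SupportSh
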