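import Groth.Agent.L04.SupportSh.FunctorLES
import Groth.Agent.L04.SupportSh.Restrict
import Groth.Agent.L17.SectSupp
import Groth.Agent.L10.TopCoh

/-!
# Local cohomology sheaves and higher direct images from the open complement
-/

set_option autoImplicit false
set_option backward.isDefEq.respectTransparency false

universe u

open CategoryTheory CategoryTheory.Limits Opposite TopologicalSpace

namespace Groth.L04.SupportSh

variable {X : TopCat.{u}} (U : Opens X)

/-- The unit `F ⟶ j_* j⁻¹ F`. -/
noncomputable abbrev unitJ : 𝟭 (CohTop.Ab X) ⟶ CohTop.pull (CohCx.incl U) ⋙ CohTop.push (CohCx.incl U) :=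
  (TopCat.Sheaf.pullbackPushforwardAdjunction AddCommGrpCat.{u} (CohCx.incl U)).unit

instance additive_push_incl : (CohTop.push (CohCx.incl U)).Additive :=
  CohTop.instAdditiveAbPush _

instance additive_pull_incl : (CohTop.pull (CohCx.incl U)).Additive :=
  haveI : (TopCat.Sheaf.pushforward AddCommGrpCat.{u} (CohCx.incl U)).Additive := additive_push_incl U
  (TopCat.Sheaf.pullbackPushforwardAdjunction AddCommGrpCat.{u} (CohCx.incl U)).left_adjoint_additive

instance preservesFiniteLimits_pull_incl : PreservesFiniteLimits (CohTop.pull (CohCx.incl U)) :=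
  preservesFiniteLimits_pull _

instance preservesFiniteColimits_pull_incl : PreservesFiniteColimits (CohTop.pull (CohCx.incl U)) :=
  preservesFiniteColimits_pull _

instance preservesFiniteLimits_push_incl : PreservesFiniteLimits (CohTop.push (CohCx.incl U)) :=
  preservesFiniteLimits_push _

instance additive_pullPush : (CohTop.pull (CohCx.incl U) ⋙ CohTop.push (CohCx.incl U)).Additive :=
  inferInstance

instance preservesFiniteLimits_pullPush :
    PreservesFiniteLimits (CohTop.pull (CohCx.incl U) ⋙ CohTop.push (CohCx.incl U)) :=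
  comp_preservesFiniteLimits _ _

/-- The inclusion of sections with support, as a natural transformation. -/
noncomputable def inclNat : LocCohZ.sectSuppF U ⟶ 𝟭 (CohTop.Ab X) where
  app F := Groth.L17.SectSupp.incl U F
  naturality _ _ φ := Groth.L17.SectSupp.incl_map U φ

theorem inclNat_unit (F : CohTop.Ab X) : (inclNat U).app F ≫ (unitJ U).app F = 0 := kernel.condition _

/-- The unit is sectionwise surjective on flasque sheaves. -/
theorem unit_app_surjective (F : CohTop.Ab X) [TopCat.Sheaf.IsFlasque F] (V : Opens X) :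
    Function.Surjective (((unitJ U).app F).hom.app (op V)) := by
  let adj := TopCat.Sheaf.pullbackPushforwardAdjunction AddCommGrpCat.{u} (CohCx.incl U)
  let e := adj.leftAdjointUniq (Groth.L17.SectSupp.restrAdj U)
  have he : adj.unit.app F ≫ (CohTop.push (CohCx.incl U)).map (e.hom.app F) =
      (Groth.L17.SectSupp.restrAdj U).unit.app F := adj.unit_leftAdjointUniq_hom_app _ F
  let m : (((CohTop.pull (CohCx.incl U) ⋙ CohTop.push (CohCx.incl U)).obj F).obj.obj (op V)) ⟶ _ :=
    ((CohTop.push (CohCx.incl U)).map (e.hom.app F)).hom.app (op V)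
  have : IsIso m := inferInstance
  intro t
  obtain ⟨s, hs⟩ := (AddCommGrpCat.epi_iff_surjective _).1
    (TopCat.Presheaf.IsFlasque.epi (F := F.obj) (U.isOpenEmbedding.isOpenMap.adjunction.counit.app V).op) (m t)
  refine ⟨s, (AddCommGrpCat.mono_iff_injective m).1 inferInstance ?_⟩
  exact (congrArg (fun g : F ⟶ _ => (g.hom.app (op V)) s) he).trans hs

theorem shortExact_of_isFlasque (F : CohTop.Ab X) [TopCat.Sheaf.IsFlasque F] :
    (ShortComplex.mk ((inclNat U).app F) ((unitJ U).app F) (inclNat_unit U F)).ShortExact := by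
  refine ShortComplex.ShortExact.mk' ?_ ?_ ?_
  · exact ShortComplex.exact_of_f_is_kernel _ (kernelIsKernel _)
  · exact inferInstanceAs (Mono (kernel.ι ((unitJ U).app F)))
  · refine (sheafToPresheaf (Opens.grothendieckTopology X) AddCommGrpCat.{u}).epi_of_epi_map ?_
    exact @NatTrans.epi_of_epi_app _ _ _ _ _ _ _ fun V =>
      (AddCommGrpCat.epi_iff_surjective _).2 (unit_app_surjective U F V.unop)

theorem shortExact_of_injective_ab (I : CohTop.Ab X) (hI : Injective I) :
    (ShortComplex.mk ((inclNat U).app I) ((unitJ U).app I) (inclNat_unit U I)).ShortExact :=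
  haveI := Groth.L10.TopCoh.isFlasque_of_injective I
  shortExact_of_isFlasque U I

theorem isZero_rightDerived_id_succ (n : ℕ) (F : CohTop.Ab X) :
    IsZero (((𝟭 (CohTop.Ab X)).rightDerived (n + 1)).obj F) := by
  refine IsZero.of_iso ?_ ((injectiveResolution F).isoRightDerivedObj (𝟭 (CohTop.Ab X)) (n + 1))
  refine ShortComplex.exact_iff_isZero_homology _ |>.1 ?_
  exact ((HomologicalComplex.exactAt_iff _ _).1 ((injectiveResolution F).cocomplex_exactAt_succ n))

theorem nonempty_HZsh_one :
    Nonempty (LocCohZ.HZsh U 1 ≅ cokernel (unitJ U)) :=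
  Groth.L04.FunctorLES.nonempty_iso_cokernel (inclNat U) (unitJ U) (inclNat_unit U)
    (shortExact_of_injective_ab U) (isZero_rightDerived_id_succ 0)

theorem nonempty_HZsh_succ (i : ℕ) (hi : 1 ≤ i) :
    Nonempty (LocCohZ.HZsh U (i + 1) ≅ CohTop.pull (CohCx.incl U) ⋙ CohTop.Rpush (CohCx.incl U) i) := by
  obtain ⟨i, rfl⟩ : ∃ k, i = k + 1 := ⟨i - 1, by omega⟩
  obtain ⟨e⟩ := Groth.L04.FunctorLES.nonempty_iso_succ (inclNat U) (unitJ U) (inclNat_unit U)
    (shortExact_of_injective_ab U) (i + 1) (isZero_rightDerived_id_succ i) (isZero_rightDerived_id_succ (i + 1))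
  obtain ⟨e'⟩ := Groth.L04.FunctorLES.nonempty_precomp_iso (CohTop.pull (CohCx.incl U))
    (CohTop.push (CohCx.incl U)) (i + 1)
  exact ⟨e.symm ≪≫ e'⟩

end Groth.L04.SupportSh
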