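import Groth.Agent.L17.SectSupp
import Groth.Agent.L10.Proper.Stalk

/-!
# Sections with support as the right adjoint of the pushforward from a closed subset
-/

set_option autoImplicit false
set_option backward.isDefEq.respectTransparency false

universe u

open CategoryTheory CategoryTheory.Limits Opposite TopologicalSpace

namespace Groth.L04.SupportSh

variable {X : TopCat.{u}} (U : Opens X)

local notation "ι" => CohCx.inclCompl U
/-- The adjunction of inverse and direct images along the inclusion of the closed complement. -/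
noncomputable abbrev adjC' : CohTop.pull (CohCx.inclCompl U) ⊣ CohTop.push (CohCx.inclCompl U) :=
  TopCat.Sheaf.pullbackPushforwardAdjunction AddCommGrpCat.{u} (CohCx.inclCompl U)

/-- A sheaf without sections on opens inside `U`. -/
def VanishesOn (F : CohTop.Ab X) : Prop := ∀ V : Opens X, V ≤ U → Subsingleton (F.obj.obj (op V))

theorem inducing_inclCompl : Topology.IsInducing ι := ⟨rfl⟩

theorem isIso_stalkPushforward (G : CohTop.Ab (TopCat.of ((U : Set X)ᶜ : Set X)))
    (x : TopCat.of ((U : Set X)ᶜ : Set X)) :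
    IsIso (TopCat.Presheaf.stalkPushforward AddCommGrpCat.{u} ι G.obj x) :=
  TopCat.Presheaf.stalkPushforward.stalkPushforward_iso_of_isInducing AddCommGrpCat.{u}
    (inducing_inclCompl U) G.obj x

theorem vanishesOn_push (G : CohTop.Ab (TopCat.of ((U : Set X)ᶜ : Set X))) :
    VanishesOn U ((CohTop.push ι).obj G) := fun V hV => by
  have h : (Opens.map ι).obj V = ⊥ := eq_bot_iff.2 fun x hx => (x.2 (hV hx)).elim
  change Subsingleton (G.obj.obj (op ((Opens.map ι).obj V)))
  rw [h]
  exact AddCommGrpCat.subsingleton_of_isZero (TopCat.Sheaf.isTerminalOfEmpty G).isZero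

theorem vanishesOn_sectSupp (F : CohTop.Ab X) : VanishesOn U ((LocCohZ.sectSuppF U).obj F) := fun V hV => by
  refine subsingleton_of_forall_eq 0 fun s => Groth.L17.SectSupp.incl_app_injective U F V ?_
  rw [map_zero]
  have h := Groth.L17.SectSupp.incl_app_mem U F V s
  haveI : IsIso (homOfLE (inf_le_left : V ⊓ U ≤ V)).op :=
    ⟨(homOfLE (le_inf le_rfl hV : V ≤ V ⊓ U)).op, Subsingleton.elim _ _, Subsingleton.elim _ _⟩
  exact (AddCommGrpCat.mono_iff_injective (F.obj.map (homOfLE (inf_le_left : V ⊓ U ≤ V)).op)).1 inferInstance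
    (h.trans (map_zero _).symm)

theorem isIso_unit_of_vanishesOn (F : CohTop.Ab X) (hF : VanishesOn U F) :
    IsIso ((adjC' U).unit.app F) := by
  haveI : ∀ x : X, IsIso ((TopCat.Presheaf.stalkFunctor AddCommGrpCat.{u} x).map ((adjC' U).unit.app F).hom) := by
    intro x
    by_cases hx : x ∈ U
    · have key : ∀ (G : CohTop.Ab X), VanishesOn U G →
          Subsingleton ((TopCat.Presheaf.stalkFunctor AddCommGrpCat.{u} x).obj G.obj) := fun G hG => by
        refine subsingleton_of_forall_eq 0 fun a => ?_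
        obtain ⟨V, hV, s, rfl⟩ := TopCat.Presheaf.exists_germ_eq (F := G.obj) a
        rw [← TopCat.Presheaf.germ_res_apply G.obj (homOfLE (inf_le_left : V ⊓ U ≤ V)) x ⟨hV, hx⟩ s,
          @Subsingleton.elim _ (hG _ inf_le_right) (G.obj.map (homOfLE (inf_le_left : V ⊓ U ≤ V)).op s) 0]
        exact map_zero _
      rw [ConcreteCategory.isIso_iff_bijective]
      exact ⟨fun a b _ => @Subsingleton.elim _ (key F hF) a b,
        fun b => ⟨0, @Subsingleton.elim _ (key _ (vanishesOn_push U _)) _ _⟩⟩
    · let x' : TopCat.of ((U : Set X)ᶜ : Set X) := ⟨x, hx⟩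
      haveI := isIso_stalkPushforward U ((CohTop.pull ι).obj F) x'
      haveI : IsIso (Groth.L10.Proper.stalkComp ι ((adjC' U).unit.app F) x') :=
        (ConcreteCategory.isIso_iff_bijective _).2 (Groth.L10.Proper.isPullUnit_unit ι F x')
      exact @IsIso.of_isIso_comp_right _ _ _ _ _
        ((TopCat.Presheaf.stalkFunctor AddCommGrpCat.{u} (ι x')).map ((adjC' U).unit.app F).hom)
        (TopCat.Presheaf.stalkPushforward AddCommGrpCat.{u} ι ((CohTop.pull ι).obj F).obj x')
        (isIso_stalkPushforward U ((CohTop.pull ι).obj F) x')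
        ((ConcreteCategory.isIso_iff_bijective _).2 (Groth.L10.Proper.isPullUnit_unit ι F x'))
  exact TopCat.Presheaf.isIso_of_stalkFunctor_map_iso _

theorem isIso_counit (G : CohTop.Ab (TopCat.of ((U : Set X)ᶜ : Set X))) : IsIso ((adjC' U).counit.app G) := by
  haveI := isIso_unit_of_vanishesOn U _ (vanishesOn_push U G)
  haveI h : IsIso ((CohTop.push ι).map ((adjC' U).counit.app G)) := by
    have e := (adjC' U).right_triangle_components G
    exact IsIso.of_isIso_fac_left e
  haveI : ∀ x, IsIso ((TopCat.Presheaf.stalkFunctor AddCommGrpCat.{u} x).map ((adjC' U).counit.app G).hom) := by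
    intro x
    haveI := isIso_stalkPushforward U G x
    haveI := isIso_stalkPushforward U ((CohTop.pull ι).obj ((CohTop.push ι).obj G)) x
    haveI : IsIso ((TopCat.Presheaf.stalkFunctor AddCommGrpCat.{u} (ι x)).map
        ((CohTop.push ι).map ((adjC' U).counit.app G)).hom) := by
      haveI : IsIso ((CohTop.push ι).map ((adjC' U).counit.app G)).hom :=
        inferInstanceAs (IsIso ((sheafToPresheaf _ _).map ((CohTop.push ι).map ((adjC' U).counit.app G))))
      infer_instance
    have e : (TopCat.Presheaf.stalkFunctor AddCommGrpCat.{u} (ι x)).map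
        ((CohTop.push ι).map ((adjC' U).counit.app G)).hom ≫ TopCat.Presheaf.stalkPushforward AddCommGrpCat.{u} ι G.obj x =
        TopCat.Presheaf.stalkPushforward AddCommGrpCat.{u} ι _ x ≫
          (TopCat.Presheaf.stalkFunctor AddCommGrpCat.{u} x).map ((adjC' U).counit.app G).hom := by
      refine TopCat.Presheaf.stalk_hom_ext _ fun V hV => ?_
      ext s
      rw [ConcreteCategory.comp_apply, ConcreteCategory.comp_apply, ConcreteCategory.comp_apply,
        ConcreteCategory.comp_apply]
      erw [TopCat.Presheaf.stalkFunctor_map_germ_apply, TopCat.Presheaf.stalkPushforward_germ_apply,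
        TopCat.Presheaf.stalkPushforward_germ_apply, TopCat.Presheaf.stalkFunctor_map_germ_apply]
      rfl
    refine @IsIso.of_isIso_comp_left _ _ _ _ _ _ ((TopCat.Presheaf.stalkFunctor AddCommGrpCat.{u} x).map ((adjC' U).counit.app G).hom)
      (isIso_stalkPushforward U ((CohTop.pull ι).obj ((CohTop.push ι).obj G)) x) ?_
    exact e ▸ (inferInstance : IsIso ((TopCat.Presheaf.stalkFunctor AddCommGrpCat.{u} (ι x)).map
      ((CohTop.push ι).map ((adjC' U).counit.app G)).hom ≫ TopCat.Presheaf.stalkPushforward AddCommGrpCat.{u} ι G.obj x))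
  exact TopCat.Presheaf.isIso_of_stalkFunctor_map_iso _

theorem incl_hom_ext {A : CohTop.Ab X} {F : CohTop.Ab X} {a b : A ⟶ (LocCohZ.sectSuppF U).obj F}
    (h : a ≫ Groth.L17.SectSupp.incl U F = b ≫ Groth.L17.SectSupp.incl U F) : a = b :=
  haveI : Mono (Groth.L17.SectSupp.incl U F) := inferInstanceAs (Mono (kernel.ι
    ((TopCat.Sheaf.pullbackPushforwardAdjunction AddCommGrpCat.{u} (CohCx.incl U)).unit.app F)))
  (cancel_mono _).1 h

theorem exists_sectSupp_lift {A : CohTop.Ab X} (hA : VanishesOn U A) {F : CohTop.Ab X} (φ : A ⟶ F) :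
    ∃ ψ : A ⟶ (LocCohZ.sectSuppF U).obj F, ψ ≫ Groth.L17.SectSupp.incl U F = φ := by
  refine ⟨kernel.lift _ φ ?_, kernel.lift_ι _ _ _⟩
  refine Sheaf.hom_ext (NatTrans.ext (funext fun V => ?_))
  obtain ⟨V⟩ := V
  ext (s : A.obj.obj (op V))
  refine (Groth.L17.SectSupp.ker_unit_app U F V _).2 ?_
  refine (congr($(φ.hom.naturality (homOfLE (inf_le_left : V ⊓ U ≤ V)).op) s)).symm.trans ?_
  exact (congrArg (φ.hom.app (op (V ⊓ U))) (@Subsingleton.elim _ (hA _ inf_le_right) _ 0)).trans (map_zero _)

/-- The hom-set equivalence. -/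
theorem nonempty_push_sectSupp_adjunction :
    Nonempty (CohTop.push ι ⊣ LocCohZ.sectSuppF U ⋙ CohTop.pull ι) := by
  haveI hc : ∀ G, IsIso ((adjC' U).counit.app G) := isIso_counit U
  haveI hu : ∀ F, IsIso ((adjC' U).unit.app ((LocCohZ.sectSuppF U).obj F)) := fun F =>
    isIso_unit_of_vanishesOn U _ (vanishesOn_sectSupp U F)
  choose L hL using fun (G : CohTop.Ab (TopCat.of ((U : Set X)ᶜ : Set X))) (F : CohTop.Ab X)
    (φ : (CohTop.push ι).obj G ⟶ F) => exists_sectSupp_lift U (vanishesOn_push U G) φ
  refine ⟨Adjunction.mkOfHomEquiv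
    { homEquiv := fun G F =>
        { toFun := fun φ => inv ((adjC' U).counit.app G) ≫ (CohTop.pull ι).map (L G F φ)
          invFun := fun ψ => (CohTop.push ι).map ψ ≫ inv ((adjC' U).unit.app ((LocCohZ.sectSuppF U).obj F)) ≫
            Groth.L17.SectSupp.incl U F
          left_inv := fun φ => ?_
          right_inv := fun ψ => ?_ }
      homEquiv_naturality_left_symm := ?_
      homEquiv_naturality_right := ?_ }⟩
  · change (CohTop.push ι).map (inv ((adjC' U).counit.app G) ≫ (CohTop.pull ι).map (L G F φ)) ≫ _ = φ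
    rw [Functor.map_comp, Category.assoc]
    haveI := isIso_unit_of_vanishesOn U _ (vanishesOn_push U G)
    have h1 : (CohTop.push ι).map ((CohTop.pull ι).map (L G F φ)) =
        inv ((adjC' U).unit.app ((CohTop.push ι).obj G)) ≫ L G F φ ≫ (adjC' U).unit.app ((LocCohZ.sectSuppF U).obj F) := by
      rw [IsIso.eq_inv_comp]
      exact ((adjC' U).unit.naturality (L G F φ)).symm
    have h2 : (CohTop.push ι).map (inv ((adjC' U).counit.app G)) = (adjC' U).unit.app ((CohTop.push ι).obj G) := by
      rw [Functor.map_inv]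
      exact IsIso.inv_eq_of_inv_hom_id ((adjC' U).right_triangle_components G)
    rw [h1, h2]
    simp only [Category.assoc, IsIso.hom_inv_id_assoc, hL]
  · change inv ((adjC' U).counit.app G) ≫ (CohTop.pull ι).map (L G F _) = ψ
    have h1 : L G F ((CohTop.push ι).map ψ ≫ inv ((adjC' U).unit.app ((LocCohZ.sectSuppF U).obj F)) ≫
        Groth.L17.SectSupp.incl U F) = (CohTop.push ι).map ψ ≫ inv ((adjC' U).unit.app ((LocCohZ.sectSuppF U).obj F)) :=
      incl_hom_ext U (by rw [hL, Category.assoc])
    rw [h1, IsIso.inv_comp_eq, Functor.map_comp, Functor.map_inv, IsIso.comp_inv_eq]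
    haveI : IsIso ((adjC' U).counit.app ((CohTop.pull ι).obj ((LocCohZ.sectSuppF U).obj F))) := hc _
    rw [← cancel_mono ((adjC' U).counit.app ((CohTop.pull ι).obj ((LocCohZ.sectSuppF U).obj F)))]
    rw [Category.assoc, Category.assoc]
    erw [(adjC' U).left_triangle_components, Category.comp_id]
    exact (adjC' U).counit.naturality ψ
  · intro G' G F a ψ
    change (CohTop.push ι).map (a ≫ ψ) ≫ _ = (CohTop.push ι).map a ≫ (CohTop.push ι).map ψ ≫ _
    rw [Functor.map_comp, Category.assoc]
  · intro G F F' φ g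
    change inv ((adjC' U).counit.app G) ≫ (CohTop.pull ι).map (L G F' (φ ≫ g)) =
      (inv ((adjC' U).counit.app G) ≫ (CohTop.pull ι).map (L G F φ)) ≫ (CohTop.pull ι).map ((LocCohZ.sectSuppF U).map g)
    rw [Category.assoc, ← Functor.map_comp]
    congr 2
    exact incl_hom_ext U (by rw [hL, Category.assoc, Groth.L17.SectSupp.incl_map, ← Category.assoc, hL])

end Groth.L04.SupportSh
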