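import Groth.Agent.L10.Proper.Stalk
import Mathlib.CategoryTheory.Abelian.Exact
import Mathlib.CategoryTheory.Adjunction.FullyFaithful

/-!
# Direct image along a closed embedding
-/

set_option autoImplicit false
set_option backward.isDefEq.respectTransparency false
set_option linter.style.haveILetI false

universe u

open CategoryTheory CategoryTheory.Limits Opposite TopologicalSpace

namespace Groth.L04.ClosedEmbedding

variable {Z X : TopCat.{u}} {i : Z ⟶ X}

noncomputable abbrev adj (i : Z ⟶ X) : CohTop.pull i ⊣ CohTop.push i :=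
  TopCat.Sheaf.pullbackPushforwardAdjunction AddCommGrpCat.{u} i

noncomputable abbrev st {Y : TopCat.{u}} (y : Y) {A B : CohTop.Ab Y} (φ : A ⟶ B) :
    CohTop.stalk A y ⟶ CohTop.stalk B y :=
  (TopCat.Presheaf.stalkFunctor AddCommGrpCat.{u} y).map φ.hom

theorem isIso_stalkPushforward (hi : Topology.IsClosedEmbedding i) (G : CohTop.Ab Z) (z : Z) :
    IsIso (TopCat.Presheaf.stalkPushforward AddCommGrpCat.{u} i G.obj z) :=
  TopCat.Presheaf.stalkPushforward.stalkPushforward_iso_of_isInducing AddCommGrpCat.{u} hi.isInducing G.obj z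

theorem subsingleton_push_stalk (hi : Topology.IsClosedEmbedding i) (G : CohTop.Ab Z) {x : X}
    (hx : x ∉ Set.range i) : Subsingleton (CohTop.stalk ((CohTop.push i).obj G) x) := by
  refine subsingleton_of_forall_eq 0 fun a => ?_
  obtain ⟨V, hV, s, rfl⟩ := TopCat.Presheaf.exists_germ_eq (F := ((CohTop.push i).obj G).obj) a
  let W : Opens X := V ⊓ ⟨(Set.range i)ᶜ, hi.isClosed_range.isOpen_compl⟩
  have hW : (Opens.map i).obj W = ⊥ := eq_bot_iff.2 fun z hz => (hz.2 ⟨z, rfl⟩).elim
  haveI : Subsingleton (((CohTop.push i).obj G).obj.obj (op W)) := by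
    change Subsingleton (G.obj.obj (op ((Opens.map i).obj W)))
    rw [hW]
    exact AddCommGrpCat.subsingleton_of_isZero (TopCat.Sheaf.isTerminalOfEmpty G).isZero
  rw [← TopCat.Presheaf.germ_res_apply ((CohTop.push i).obj G).obj (homOfLE (inf_le_left : W ≤ V)) x ⟨hV, hx⟩ s,
    Subsingleton.elim (((CohTop.push i).obj G).obj.map (homOfLE (inf_le_left : W ≤ V)).op s) 0]
  exact map_zero _

theorem stalkPushforward_naturality {A B : CohTop.Ab Z} (φ : A ⟶ B) (z : Z) :
    st (i z) ((CohTop.push i).map φ) ≫ TopCat.Presheaf.stalkPushforward AddCommGrpCat.{u} i B.obj z =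
      TopCat.Presheaf.stalkPushforward AddCommGrpCat.{u} i A.obj z ≫ st z φ := by
  refine TopCat.Presheaf.stalk_hom_ext _ fun V hV => ?_
  ext s
  rw [ConcreteCategory.comp_apply, ConcreteCategory.comp_apply, ConcreteCategory.comp_apply,
    ConcreteCategory.comp_apply]
  erw [TopCat.Presheaf.stalkFunctor_map_germ_apply, TopCat.Presheaf.stalkPushforward_germ_apply,
    TopCat.Presheaf.stalkPushforward_germ_apply, TopCat.Presheaf.stalkFunctor_map_germ_apply]
  rfl

theorem isIso_unit (hi : Topology.IsClosedEmbedding i) (F : CohTop.Ab X)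
    (hF : ∀ x, x ∉ Set.range i → IsZero (CohTop.stalk F x)) : IsIso ((adj i).unit.app F) := by
  haveI : ∀ x : X, IsIso ((TopCat.Presheaf.stalkFunctor AddCommGrpCat.{u} x).map ((adj i).unit.app F).hom) := by
    intro x
    by_cases hx : x ∈ Set.range i
    · obtain ⟨z, rfl⟩ := hx
      exact @IsIso.of_isIso_comp_right _ _ _ _ _
        (st (i z) ((adj i).unit.app F))
        (TopCat.Presheaf.stalkPushforward AddCommGrpCat.{u} i ((CohTop.pull i).obj F).obj z)
        (isIso_stalkPushforward hi ((CohTop.pull i).obj F) z)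
        ((ConcreteCategory.isIso_iff_bijective _).2 (Groth.L10.Proper.isPullUnit_unit i F z))
    · rw [ConcreteCategory.isIso_iff_bijective]
      haveI := AddCommGrpCat.subsingleton_of_isZero (hF x hx)
      haveI := subsingleton_push_stalk hi ((CohTop.pull i).obj F) hx
      exact ⟨fun a b _ => @Subsingleton.elim (CohTop.stalk F x) _ a b,
        fun b => ⟨0, @Subsingleton.elim (CohTop.stalk ((CohTop.push i).obj ((CohTop.pull i).obj F)) x) _ _ b⟩⟩
  exact TopCat.Presheaf.isIso_of_stalkFunctor_map_iso _

theorem isZero_stalk_push (hi : Topology.IsClosedEmbedding i) (G : CohTop.Ab Z) {x : X}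
    (hx : x ∉ Set.range i) : IsZero (CohTop.stalk ((CohTop.push i).obj G) x) :=
  haveI := subsingleton_push_stalk hi G hx
  AddCommGrpCat.isZero_of_subsingleton _

theorem isIso_counit (hi : Topology.IsClosedEmbedding i) (G : CohTop.Ab Z) :
    IsIso ((adj i).counit.app G) := by
  haveI := isIso_unit hi _ fun x hx => isZero_stalk_push hi G (x := x) hx
  haveI : IsIso ((CohTop.push i).map ((adj i).counit.app G)) :=
    IsIso.of_isIso_fac_left ((adj i).right_triangle_components G)
  haveI : IsIso ((CohTop.push i).map ((adj i).counit.app G)).hom :=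
    inferInstanceAs (IsIso ((sheafToPresheaf _ _).map ((CohTop.push i).map ((adj i).counit.app G))))
  haveI : ∀ z, IsIso ((TopCat.Presheaf.stalkFunctor AddCommGrpCat.{u} z).map ((adj i).counit.app G).hom) := by
    intro z
    haveI := isIso_stalkPushforward hi G z
    haveI := isIso_stalkPushforward hi ((CohTop.pull i).obj ((CohTop.push i).obj G)) z
    refine @IsIso.of_isIso_comp_left _ _ _ _ _ _ (st z ((adj i).counit.app G))
      (isIso_stalkPushforward hi _ z) ?_
    rw [← stalkPushforward_naturality]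
    exact @IsIso.comp_isIso _ _ _ _ _ _ _
      (Functor.map_isIso (TopCat.Presheaf.stalkFunctor AddCommGrpCat.{u} (i z)) ((CohTop.push i).map ((adj i).counit.app G)).hom)
      (isIso_stalkPushforward hi G z)
  exact TopCat.Presheaf.isIso_of_stalkFunctor_map_iso _

theorem epi_push_map (hi : Topology.IsClosedEmbedding i) {A B : CohTop.Ab Z} (φ : A ⟶ B) [Epi φ] :
    Epi ((CohTop.push i).map φ) := by
  haveI : Sheaf.IsLocallySurjective φ := (Sheaf.isLocallySurjective_iff_epi' _ φ).2 inferInstance
  refine (Sheaf.isLocallySurjective_iff_epi' _ _).1 ?_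
  rw [Sheaf.IsLocallySurjective]
  refine (TopCat.Presheaf.locally_surjective_iff_surjective_on_stalks _).2 fun x => ?_
  by_cases hx : x ∈ Set.range i
  · obtain ⟨z, rfl⟩ := hx
    have hs : Function.Surjective (st z φ) :=
      (TopCat.Presheaf.locally_surjective_iff_surjective_on_stalks φ.hom).1 (inferInstance : Sheaf.IsLocallySurjective φ) z
    intro b
    obtain ⟨a, ha⟩ := hs (TopCat.Presheaf.stalkPushforward AddCommGrpCat.{u} i B.obj z b)
    haveI := isIso_stalkPushforward hi A z
    haveI := isIso_stalkPushforward hi B z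
    obtain ⟨a', rfl⟩ := (ConcreteCategory.bijective_of_isIso
      (TopCat.Presheaf.stalkPushforward AddCommGrpCat.{u} i A.obj z)).2 a
    refine ⟨a', (ConcreteCategory.bijective_of_isIso
      (TopCat.Presheaf.stalkPushforward AddCommGrpCat.{u} i B.obj z)).1 ?_⟩
    exact (congr($(stalkPushforward_naturality φ z) a')).trans ha
  · haveI := subsingleton_push_stalk hi B hx
    exact fun b => ⟨0, @Subsingleton.elim (CohTop.stalk ((CohTop.push i).obj B) x) _ _ b⟩

theorem preservesFiniteColimits_push (hi : Topology.IsClosedEmbedding i) :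
    PreservesFiniteColimits (CohTop.push i) := by
  haveI : PreservesLimitsOfSize.{0, 0} (CohTop.push i) := (adj i).rightAdjoint_preservesLimits
  haveI : PreservesFiniteLimits (CohTop.push i) := PreservesLimitsOfSize.preservesFiniteLimits _
  haveI : (CohTop.push i).Additive := Functor.additive_of_preserves_binary_products _
  haveI : (CohTop.push i).PreservesEpimorphisms := ⟨fun φ hφ => epi_push_map hi φ⟩
  refine (Functor.preservesFiniteColimits_iff_forall_exact_map_and_epi _).2 fun S hS => ?_
  haveI := hS.epi_g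
  exact ⟨((Functor.preservesFiniteLimits_iff_forall_exact_map_and_mono _).1 inferInstance S hS).1, inferInstance⟩

theorem main (hi : Topology.IsClosedEmbedding i) :
    PreservesFiniteColimits (CohTop.push i) ∧ (CohTop.push i).Full ∧ (CohTop.push i).Faithful ∧
      (∀ F : CohTop.Ab X, (CohTop.push i).essImage F ↔ ∀ x : X, x ∉ Set.range i → IsZero (CohTop.stalk F x)) ∧
      Nonempty (CohTop.push i ⋙ CohTop.pull i ≅ 𝟭 (CohTop.Ab Z)) := by
  haveI : ∀ G, IsIso ((adj i).counit.app G) := isIso_counit hi
  haveI : IsIso (adj i).counit := NatIso.isIso_of_isIso_app _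
  let ff := (adj i).fullyFaithfulROfIsIsoCounit
  refine ⟨preservesFiniteColimits_push hi, ff.full, ff.faithful, fun F => ⟨?_, fun hF => ?_⟩,
    ⟨asIso (adj i).counit⟩⟩
  · rintro ⟨G, ⟨e⟩⟩ x hx
    refine (isZero_stalk_push hi G hx).of_iso ?_
    exact (TopCat.Sheaf.forget _ X ⋙ TopCat.Presheaf.stalkFunctor AddCommGrpCat.{u} x).mapIso e.symm
  · haveI := isIso_unit hi F hF
    exact ⟨_, ⟨(asIso ((adj i).unit.app F)).symm⟩⟩

end Groth.L04.ClosedEmbedding
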