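import Groth.Agent.L04.SupportSh.Criteria
import Groth.Agent.L04.SupportSh.Restrict
import Groth.Agent.L15.RightDerivedExt

/-!
# Cohomology with supports computed on an open subspace
-/

set_option autoImplicit false
set_option backward.isDefEq.respectTransparency false

universe u

open CategoryTheory CategoryTheory.Limits Opposite TopologicalSpace

namespace Groth.L04.SupportSh

theorem additive_gammaZF {Y : TopCat.{u}} (U : Opens Y) : (LocCohZ.gammaZF U).Additive := inferInstance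

theorem nonempty_rightDerived_gammaZ_iso {Y : TopCat.{u}} (U : Opens Y) (i : ℕ) :
    Nonempty ((LocCohZ.gammaZF U).rightDerived i ≅ Abelian.extFunctorObj (LocCohZ.zq (le_top : U ≤ ⊤)) i) := by
  letI := HasDerivedCategory.standard (CohTop.Ab Y)
  obtain ⟨e⟩ := Groth.L17.SectSupp.exists_gammaZIso U
  exact ⟨Groth.L10.SiteCoh.rightDerivedCongr (F := LocCohZ.gammaZF U) e i ≪≫
    Groth.L15.RightDerivedExt.iso (LocCohZ.zq (le_top : U ≤ ⊤)) i⟩

variable {X : TopCat.{u}} (V W : Opens X)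

theorem image_top : V.isOpenEmbedding.isOpenMap.functor.obj ⊤ = V := by
  ext p
  exact ⟨fun ⟨q, _, h⟩ => h ▸ q.2, fun h => ⟨⟨p, h⟩, trivial, rfl⟩⟩

theorem image_map_le : V.isOpenEmbedding.isOpenMap.functor.obj
    (⊤ ⊓ (Opens.map (CohCx.incl V)).obj W) ≤ V ⊓ W := by
  rintro p ⟨q, hq, rfl⟩
  exact ⟨q.2, hq.2⟩

theorem le_image_map : V ⊓ W ≤ V.isOpenEmbedding.isOpenMap.functor.obj
    (⊤ ⊓ (Opens.map (CohCx.incl V)).obj W) := by
  intro p hp
  exact ⟨⟨p, hp.1⟩, ⟨trivial, hp.2⟩, rfl⟩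

theorem map_map_eq (F : CohTop.Ab X) {A B B' D : (Opens X)ᵒᵖ} (f : A ⟶ B) (g : B ⟶ D) (f' : A ⟶ B') (g' : B' ⟶ D)
    (x : F.obj.obj A) : F.obj.map g (F.obj.map f x) = F.obj.map g' (F.obj.map f' x) := by
  rw [← ConcreteCategory.comp_apply, ← ConcreteCategory.comp_apply, ← F.obj.map_comp, ← F.obj.map_comp,
    show f ≫ g = f' ≫ g' from Subsingleton.elim _ _]

theorem exists_restrSectIso : Nonempty
    (CohTop.restrFunctor V ⋙ LocCohZ.gammaZF ((Opens.map (CohCx.incl V)).obj W) ≅ sectV W V) := by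
  let W' := (Opens.map (CohCx.incl V)).obj W
  let r : ∀ F : CohTop.Ab X, F.obj.obj (op V) → (CohTop.restr F V).obj.obj (op ⊤) := fun F =>
    F.obj.map (homOfLE (image_top V).le).op
  let r' : ∀ F : CohTop.Ab X, (CohTop.restr F V).obj.obj (op ⊤) → F.obj.obj (op V) := fun F =>
    F.obj.map (homOfLE (image_top V).ge).op
  have hr : ∀ F s, r' F (r F s) = s := fun F s => by
    refine (congr($(F.obj.map_comp (homOfLE (image_top V).le).op (homOfLE (image_top V).ge).op) s)).symm.trans ?_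
    rw [show (homOfLE (image_top V).le).op ≫ (homOfLE (image_top V).ge).op = 𝟙 (op V) from Subsingleton.elim _ _,
      F.obj.map_id]
    rfl
  have hr' : ∀ F s, r F (r' F s) = s := fun F s => by
    refine (congr($(F.obj.map_comp (homOfLE (image_top V).ge).op (homOfLE (image_top V).le).op) s)).symm.trans ?_
    rw [show (homOfLE (image_top V).ge).op ≫ (homOfLE (image_top V).le).op = 𝟙 _ from Subsingleton.elim _ _,
      F.obj.map_id]
    rfl
  have hmem : ∀ (F : CohTop.Ab X) (t : ((LocCohZ.sectSuppF W').obj (CohTop.restr F V)).obj.obj (op ⊤)),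
      F.obj.map (homOfLE (inf_le_left : V ⊓ W ≤ V)).op
        (r' F ((Groth.L17.SectSupp.incl W' (CohTop.restr F V)).hom.app (op ⊤) t)) = 0 := by
    intro F t
    have h := Groth.L17.SectSupp.incl_app_mem W' (CohTop.restr F V) ⊤ t
    have h2 := congrArg (F.obj.map (homOfLE (le_image_map V W)).op) h
    rw [map_zero] at h2
    refine Eq.trans ?_ h2
    exact map_map_eq F _ _ _ _ _
  choose φ hφ using fun (F : CohTop.Ab X) (t : ((LocCohZ.sectSuppF W').obj (CohTop.restr F V)).obj.obj (op ⊤)) =>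
    Groth.L17.SectSupp.exists_incl_app_eq W F V _ (hmem F t)
  have hadd : ∀ F a b, φ F (a + b) = φ F a + φ F b := fun F a b =>
    Groth.L17.SectSupp.incl_app_injective W F V (by
      rw [map_add, hφ, hφ, hφ]
      exact (congrArg (r' F) (map_add _ a b)).trans (map_add (F.obj.map (homOfLE (image_top V).ge).op).hom _ _))
  have hbij : ∀ F, Function.Bijective (φ F) := fun F => by
    refine ⟨fun a b h => ?_, fun s => ?_⟩
    · apply Groth.L17.SectSupp.incl_app_injective W' (CohTop.restr F V) ⊤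
      rw [← hr' F ((Groth.L17.SectSupp.incl W' _).hom.app (op ⊤) a), ← hφ, h, hφ, hr']
    · obtain ⟨t, ht⟩ := Groth.L17.SectSupp.exists_incl_app_eq W' (CohTop.restr F V) ⊤
        (r F ((Groth.L17.SectSupp.incl W F).hom.app (op V) s)) (by
          have h := Groth.L17.SectSupp.incl_app_mem W F V s
          have h2 := congrArg (F.obj.map (homOfLE (image_map_le V W)).op) h
          rw [map_zero] at h2
          refine Eq.trans ?_ h2
          exact map_map_eq F _ _ _ _ _)
      exact ⟨t, Groth.L17.SectSupp.incl_app_injective W F V (by rw [hφ, ht, hr])⟩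
  let e : ∀ F : CohTop.Ab X, ((LocCohZ.sectSuppF W').obj (CohTop.restr F V)).obj.obj (op ⊤) ≃+
      ((LocCohZ.sectSuppF W).obj F).obj.obj (op V) :=
    fun F => AddEquiv.ofBijective (AddMonoidHom.mk' (φ F) (hadd F)) (hbij F)
  refine ⟨NatIso.ofComponents (F := CohTop.restrFunctor V ⋙ LocCohZ.gammaZF W')
    (G := sectV W V) (fun F => AddEquiv.toAddCommGrpIso (e F)) fun {F G} g => ?_⟩
  ext (t : ((LocCohZ.sectSuppF W').obj (CohTop.restr F V)).obj.obj (op ⊤))
  apply Groth.L17.SectSupp.incl_app_injective W G V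
  change (Groth.L17.SectSupp.incl W G).hom.app (op V)
      (φ G (((LocCohZ.sectSuppF W').map ((CohTop.restrFunctor V).map g)).hom.app (op ⊤) t)) =
    (Groth.L17.SectSupp.incl W G).hom.app (op V) (((LocCohZ.sectSuppF W).map g).hom.app (op V) (φ F t))
  refine (hφ G _).trans (Eq.trans ?_
    (happ (Groth.L17.SectSupp.incl_map W g) V (φ F t)).symm)
  refine Eq.trans (congrArg (r' G) (happ (Groth.L17.SectSupp.incl_map W' ((CohTop.restrFunctor V).map g)) ⊤ t)) ?_
  change r' G (g.hom.app _ _) = g.hom.app (op V) ((Groth.L17.SectSupp.incl W F).hom.app (op V) (φ F t))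
  rw [hφ]
  exact congr($(g.hom.naturality (homOfLE (image_top V).ge).op)
    ((Groth.L17.SectSupp.incl W' (CohTop.restr F V)).hom.app (op ⊤) t)).symm

theorem nonempty_ext_zq_iso (h : W ≤ V) (i : ℕ) :
    Nonempty (Abelian.extFunctorObj (LocCohZ.zq h) i ≅ CohTop.restrFunctor V ⋙
      Abelian.extFunctorObj (LocCohZ.zq (le_top : (Opens.map (CohCx.incl V)).obj W ≤ ⊤)) i) := by
  letI := HasDerivedCategory.standard (CohTop.Ab X)
  let adj := TopCat.Sheaf.pullbackPushforwardAdjunction AddCommGrpCat.{u} (CohCx.incl V)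
  let er : CohTop.pull (CohCx.incl V) ≅ CohTop.restrFunctor V :=
    adj.leftAdjointUniq (Groth.L17.SectSupp.restrAdj V)
  haveI : PreservesFiniteLimits (CohTop.restrFunctor V) := preservesFiniteLimits_of_natIso er
  haveI : PreservesFiniteColimits (CohTop.restrFunctor V) := preservesFiniteColimits_of_natIso er
  haveI : (CohTop.restrFunctor V).PreservesInjectiveObjects :=
    ⟨fun {I} hI => Groth.L04.SupportSh.injective_restrFunctor V I⟩
  let W' := (Opens.map (CohCx.incl V)).obj W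
  let E := CohTop.restrFunctor V
  haveI := additive_gammaZF W'
  obtain ⟨a⟩ := nonempty_rightDerived_gammaZ_iso W' i
  obtain ⟨b⟩ := Groth.L04.SupportSh.exists_restrSectIso V W
  obtain ⟨c⟩ := Groth.L04.SupportSh.exists_sectVIso W V
  obtain ⟨d⟩ := Groth.L04.FunctorLES.nonempty_precomp_iso E (LocCohZ.gammaZF W') i
  let z : LocCohZ.zq h ≅ LocCohZ.zq (inf_le_left : V ⊓ W ≤ V) :=
    eqToIso (by
      have hVW : V ⊓ W = W := inf_eq_right.2 h
      exact (show ∀ (A : Opens X) (hA : A ≤ V), A = W → LocCohZ.zq h = LocCohZ.zq hA from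
        fun A hA e => by subst e; rfl) (V ⊓ W) inf_le_left hVW)
  let N : Abelian.extFunctorObj (LocCohZ.zq h) i ≅ E ⋙ Abelian.extFunctorObj (LocCohZ.zq (le_top : W' ≤ ⊤)) i :=
    ((Abelian.extFunctor.{u} i).mapIso z.op).symm ≪≫
    (Groth.L15.RightDerivedExt.iso (LocCohZ.zq (inf_le_left : V ⊓ W ≤ V)) i).symm ≪≫
    (Groth.L10.SiteCoh.rightDerivedCongr (F := Groth.L04.SupportSh.sectV W V) c i).symm ≪≫
    (Groth.L10.SiteCoh.rightDerivedCongr b i).symm ≪≫ d ≪≫
    Functor.isoWhiskerLeft E a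
  exact ⟨N⟩

end Groth.L04.SupportSh
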