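import Groth.Agent.S14621
import Mathlib.Algebra.Category.Grp.FilteredColimits
import Mathlib.Topology.NoetherianSpace
import Mathlib.Topology.Sheaves.Flasque

/-!
# Filtered colimits of flasque sheaves on Noetherian spaces
-/

set_option autoImplicit false
set_option backward.isDefEq.respectTransparency false
set_option linter.style.haveILetI false

universe u

open CategoryTheory CategoryTheory.Limits Opposite TopologicalSpace

namespace Groth.L04.FilteredColimFlasque

theorem isQCSite {X : TopCat.{u}} [NoetherianSpace X] (U : Opens X) :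
    ToposFin.IsQCSite (Opens.grothendieckTopology X) U := by
  intro S hS
  have hcov : (U : Set X) ⊆ ⋃ V : {V : Opens X // ∃ g : V ⟶ U, S g}, (V.1 : Set X) := fun x hx => by
    obtain ⟨V, g, hg, hxV⟩ := hS x hx
    exact Set.mem_iUnion.2 ⟨⟨V, g, hg⟩, hxV⟩
  obtain ⟨t, ht⟩ := (NoetherianSpace.isCompact (U : Set X)).elim_finite_subcover
    (fun V : {V : Opens X // ∃ g : V ⟶ U, S g} => (V.1 : Set X)) (fun V => V.1.2) hcov
  let e := t.equivFin
  refine ⟨t.card, fun k => (e.symm k).1.1, fun k => (e.symm k).1.2.choose,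
    fun k => (e.symm k).1.2.choose_spec, fun x hx => ?_⟩
  obtain ⟨V, hV, hxV⟩ := Set.mem_iUnion₂.1 (ht hx)
  refine ⟨(e.symm (e ⟨V, hV⟩)).1.1, (e.symm (e ⟨V, hV⟩)).1.2.choose, Sieve.ofArrows_mk _ _ _, ?_⟩
  rwa [Equiv.symm_apply_apply]

theorem preservesColimitsOfShape_sheafToPresheaf {X : TopCat.{u}} [NoetherianSpace X]
    (I : Type u) [SmallCategory I] [IsFiltered I] :
    PreservesColimitsOfShape I (sheafToPresheaf (Opens.grothendieckTopology X) AddCommGrpCat.{u}) := by
  let J := Opens.grothendieckTopology X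
  haveI := Groth.Agent.S14621.result J (fun U => isQCSite U) I
  refine ⟨fun {D} => ?_⟩
  let W : ((Opens X)ᵒᵖ ⥤ AddCommGrpCat.{u}) ⥤ ((Opens X)ᵒᵖ ⥤ Type u) :=
    (Functor.whiskeringRight _ _ _).obj (forget AddCommGrpCat.{u})
  let D' : I ⥤ Sheaf J (Type u) := D ⋙ sheafCompose J (forget AddCommGrpCat.{u})
  haveI := Sheaf.createsColimitOfIsSheaf D fun c hc => by
    rw [Presheaf.isSheaf_iff_isSheaf_comp J c.pt (forget AddCommGrpCat.{u})]
    have h1 := isColimitOfPreserves W hc
    have h2 := isColimitOfPreserves (sheafToPresheaf J (Type u)) (colimit.isColimit D')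
    let e : (colimit D').obj ≅ c.pt ⋙ forget AddCommGrpCat.{u} :=
      IsColimit.coconePointUniqueUpToIso h2 h1
    exact (Presheaf.isSheaf_of_iso_iff e).1 (colimit D').property
  exact preservesColimit_of_createsColimit_and_hasColimit D (sheafToPresheaf J AddCommGrpCat.{u})

theorem isFlasque_colimit {X : TopCat.{u}} [NoetherianSpace X]
    (ι : Type u) [Preorder ι] [IsDirected ι (· ≤ ·)] [Nonempty ι]
    (D : ι ⥤ CohTop.Ab X) (hD : ∀ i : ι, TopCat.Sheaf.IsFlasque (D.obj i)) :
    TopCat.Sheaf.IsFlasque (colimit D : CohTop.Ab X) := by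
  haveI := preservesColimitsOfShape_sheafToPresheaf (X := X) ι
  refine ⟨fun {U V} g => (AddCommGrpCat.epi_iff_surjective _).2 fun a => ?_⟩
  let E : CohTop.Ab X ⥤ Type u :=
    sheafToPresheaf _ _ ⋙ (evaluation (Opens X)ᵒᵖ AddCommGrpCat.{u}).obj V ⋙ forget AddCommGrpCat.{u}
  obtain ⟨i, y, hy⟩ := Types.jointly_surjective_of_isColimit
    (isColimitOfPreserves E (colimit.isColimit D)) a
  obtain ⟨z, hz⟩ := (AddCommGrpCat.epi_iff_surjective _).1 ((hD i).epi g) y
  refine ⟨(colimit.ι D i).hom.app U z, ?_⟩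
  rw [← NatTrans.naturality_apply]
  exact (congrArg ((colimit.ι D i).hom.app V) hz).trans hy

end Groth.L04.FilteredColimFlasque
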