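import Mathlib.Topology.Sheaves.LocallySurjective
import Mathlib.Topology.Sheaves.SheafCondition.UniqueGluing
import Mathlib.Topology.Sheaves.Functors
import Mathlib.CategoryTheory.Sites.EpiMono

/-!
# Direct image of sheaves of sets along closed maps with finite separated fibres
-/

set_option autoImplicit false
set_option backward.isDefEq.respectTransparency false
set_option linter.style.haveILetI false

universe u

open CategoryTheory CategoryTheory.Limits Opposite TopologicalSpace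

namespace Groth.L04.FiniteClosedPush

theorem preservesEpimorphisms {X Y : TopCat.{u}} (π : X ⟶ Y)
    (h1 : ∀ (y : Y) (U : Set X), IsOpen U → π ⁻¹' {y} ⊆ U →
      ∃ V : Set Y, IsOpen V ∧ y ∈ V ∧ π ⁻¹' V ⊆ U)
    (h2 : ∀ y : Y, (π ⁻¹' {y}).Finite ∧ ∃ U : X → Set X,
      (∀ x ∈ π ⁻¹' {y}, IsOpen (U x) ∧ x ∈ U x) ∧ (π ⁻¹' {y}).PairwiseDisjoint U) :
    (TopCat.Sheaf.pushforward (Type u) π).PreservesEpimorphisms := by
  refine ⟨fun {A B} φ hφ => ?_⟩
  haveI : Sheaf.IsLocallySurjective φ := (Sheaf.isLocallySurjective_iff_epi' _ φ).2 hφ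
  have hls : TopCat.Presheaf.IsLocallySurjective φ.hom := (inferInstance : Sheaf.IsLocallySurjective φ)
  refine (Sheaf.isLocallySurjective_iff_epi' _ _).1 ((TopCat.Presheaf.isLocallySurjective_iff _).2 ?_)
  intro W s y hy
  obtain ⟨-, U, hU, hdisj⟩ := h2 y
  let W' : Opens X := (Opens.map π).obj W
  have hloc : ∀ x : π ⁻¹' {y}, ∃ (O : Opens X) (h : O ≤ W'), (∃ a, φ.hom.app (op O) a = B.obj.map (homOfLE h).op s) ∧
      x.1 ∈ O ∧ (O : Set X) ⊆ U x.1 := by
    rintro ⟨x, hx⟩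
    obtain ⟨O, hO, ⟨a, ha⟩, hxO⟩ := (TopCat.Presheaf.isLocallySurjective_iff _).1 hls W' s x
      (show π x ∈ W from (Set.mem_singleton_iff.1 hx) ▸ hy)
    refine ⟨O ⊓ ⟨U x, (hU x hx).1⟩, inf_le_left.trans hO,
      ⟨A.obj.map (homOfLE (inf_le_left : O ⊓ ⟨U x, (hU x hx).1⟩ ≤ O)).op a, ?_⟩,
      ⟨hxO, (hU x hx).2⟩, Set.inter_subset_right⟩
    rw [NatTrans.naturality_apply]
    exact (congrArg _ ha).trans ((Functor.map_comp_apply B.obj _ _ s).symm)
  choose O hOW a hxO hOU using hloc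
  choose a ha using a
  obtain ⟨V, hV, hyV, hVO⟩ := h1 y (⋃ x, (O x : Set X)) (isOpen_iUnion fun x => (O x).2)
    fun x hx => Set.mem_iUnion.2 ⟨⟨x, hx⟩, hxO ⟨x, hx⟩⟩
  let V' : Opens Y := ⟨V, hV⟩ ⊓ W
  let P : (π ⁻¹' {y}) → Opens X := fun x => O x ⊓ (Opens.map π).obj V'
  have hcover : (Opens.map π).obj V' ≤ iSup P := fun x hx => by
    obtain ⟨i, hi⟩ := Set.mem_iUnion.1 (hVO (show π x ∈ V from hx.1))
    exact Opens.mem_iSup.2 ⟨i, hi, hx⟩
  obtain ⟨g, hg, -⟩ := A.existsUnique_gluing' P ((Opens.map π).obj V') (fun x => homOfLE inf_le_right) hcover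
    (fun x => A.obj.map (homOfLE (inf_le_left : P x ≤ O x)).op (a x)) (by
      intro i j
      by_cases hij : i = j
      · subst hij
        rfl
      · have hbot : P i ⊓ P j = ⊥ := eq_bot_iff.2 fun z hz =>
          (Set.disjoint_left.1 (hdisj i.2 j.2 (fun h => hij (Subtype.ext h))) (hOU i hz.1.1) (hOU j hz.2.1)).elim
        have hsub : Subsingleton (A.obj.obj (op (P i ⊓ P j))) := by
          rw [hbot]
          exact (Types.isTerminalEquivUnique _ (TopCat.Sheaf.isTerminalOfEmpty A)).instSubsingleton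
        exact Subsingleton.elim _ _)
  refine ⟨V', inf_le_right, ⟨g, ?_⟩, hyV, hy⟩
  refine B.eq_of_locally_eq' P ((Opens.map π).obj V') (fun x => homOfLE inf_le_right) hcover _ _ fun x => ?_
  change B.obj.map _ (φ.hom.app (op ((Opens.map π).obj V')) g) = B.obj.map _ (B.obj.map _ s)
  rw [← NatTrans.naturality_apply, hg x, NatTrans.naturality_apply, ha x, ← Functor.map_comp_apply,
    ← Functor.map_comp_apply]
  rfl

end Groth.L04.FiniteClosedPush
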