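import Mathlib.Topology.Sheaves.Flasque
import Mathlib.Algebra.Category.Grp.Limits
import Mathlib.CategoryTheory.Sites.Abelian
import Groth.Prelude.Def_CohTop

/-!
# Limits of towers of flasque sheaves
-/

set_option autoImplicit false
set_option backward.isDefEq.respectTransparency false
set_option linter.style.haveILetI false

universe u

open CategoryTheory CategoryTheory.Limits Opposite TopologicalSpace

namespace Groth.L04.FlasqueTower

variable {X : TopCat.{u}}

noncomputable abbrev ev (V : Opens X) : CohTop.Ab X ⥤ Type u :=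
  sheafToPresheaf _ _ ⋙ (evaluation (Opens X)ᵒᵖ AddCommGrpCat.{u}).obj (op V) ⋙ forget AddCommGrpCat.{u}

variable (M : ℕᵒᵖ ⥤ CohTop.Ab X)

abbrev tr (n : ℕ) : M.obj (op (n + 1)) ⟶ M.obj (op n) := M.map (homOfLE (Nat.le_succ n)).op

theorem exists_of_family (V : Opens X) (s : ∀ n, (M.obj (op n)).obj.obj (op V))
    (hs : ∀ n, (tr M n).hom.app (op V) (s (n + 1)) = s n) :
    ∃ x : (limit M).obj.obj (op V), ∀ n, (limit.π M (op n)).hom.app (op V) x = s n := by
  have hc : ∀ (a b : ℕ) (h : a ≤ b), (M.map (homOfLE h).op).hom.app (op V) (s b) = s a := by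
    intro a b h
    induction b, h using Nat.le_induction with
    | base =>
      rw [show (homOfLE (le_refl a)).op = 𝟙 (op a) from rfl, M.map_id]
      rfl
    | succ b h ih =>
      rw [show (homOfLE (h.trans (Nat.le_succ b))).op = (homOfLE (Nat.le_succ b)).op ≫ (homOfLE h).op
        from rfl, M.map_comp]
      change (M.map (homOfLE h).op).hom.app (op V) ((tr M b).hom.app (op V) (s (b + 1))) = _
      rw [hs b, ih]
  let σ : (M ⋙ ev V).sections := ⟨fun j => s j.unop, fun {a b} g => by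
    obtain ⟨a⟩ := a; obtain ⟨b⟩ := b
    exact (congrArg (fun f => (M.map f).hom.app (op V) (s a)) (Subsingleton.elim g (homOfLE (leOfHom g.unop)).op)).trans
      (hc b a (leOfHom g.unop))⟩
  let hl := isLimitOfPreserves (ev V) (limit.isLimit M)
  refine ⟨(Types.isLimitEquivSections hl).symm σ, fun n => ?_⟩
  exact congrFun (congrArg Subtype.val ((Types.isLimitEquivSections hl).apply_symm_apply σ)) (op n)

theorem ext_of_family (V : Opens X) (x y : (limit M).obj.obj (op V))
    (h : ∀ n, (limit.π M (op n)).hom.app (op V) x = (limit.π M (op n)).hom.app (op V) y) : x = y :=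
  (Types.isLimitEquivSections (isLimitOfPreserves (ev V) (limit.isLimit M))).injective
    (Subtype.ext (funext fun j => h j.unop))

theorem π_tr (V : Opens X) (n : ℕ) (x : (limit M).obj.obj (op V)) :
    (tr M n).hom.app (op V) ((limit.π M (op (n + 1))).hom.app (op V) x) = (limit.π M (op n)).hom.app (op V) x :=
  (congrArg (fun (f : limit M ⟶ M.obj (op n)) => f.hom.app (op V) x) (limit.w M (homOfLE (Nat.le_succ n)).op))

theorem surjective_of_flasque_kernel {A B : CohTop.Ab X} (φ : A ⟶ B) [Epi φ]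
    (h : TopCat.Sheaf.IsFlasque (kernel φ : CohTop.Ab X)) (V : Opens X) :
    Function.Surjective (φ.hom.app (op V)) := by
  let T : ShortComplex (CohTop.Ab X) := ShortComplex.mk (kernel.ι φ) φ (kernel.condition φ)
  have hT : T.ShortExact := { exact := ShortComplex.exact_of_f_is_kernel _ (kernelIsKernel φ) }
  haveI : TopCat.Sheaf.IsFlasque T.X₁ := h
  exact (AddCommGrpCat.epi_iff_surjective _).1 (TopCat.Sheaf.IsFlasque.epi_of_shortExact hT)

theorem exists_kernel_section {A B : CohTop.Ab X} (φ : A ⟶ B) (V : Opens X)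
    (a : A.obj.obj (op V)) (ha : φ.hom.app (op V) a = 0) :
    ∃ c : (kernel φ : CohTop.Ab X).obj.obj (op V), (kernel.ι φ).hom.app (op V) c = a := by
  let T : ShortComplex (CohTop.Ab X) := ShortComplex.mk (kernel.ι φ) φ (kernel.condition φ)
  have hT : T.Exact := ShortComplex.exact_of_f_is_kernel _ (kernelIsKernel φ)
  let G : CohTop.Ab X ⥤ AddCommGrpCat.{u} := sheafToPresheaf _ _ ⋙ (evaluation (Opens X)ᵒᵖ AddCommGrpCat.{u}).obj (op V)
  have h2 : (T.map G).Exact ∧ Mono (T.map G).f :=
    ⟨hT.map_of_mono_of_preservesKernel G inferInstance inferInstance, inferInstanceAs (Mono (G.map (kernel.ι φ)))⟩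
  exact ((ShortComplex.ab_exact_iff _).1 h2.1) a ha

theorem isFlasque_limit (h1 : ∀ n, TopCat.Sheaf.IsFlasque (M.obj (op n))) (h2 : ∀ n, Epi (tr M n))
    (h3 : ∀ n, TopCat.Sheaf.IsFlasque (kernel (tr M n) : CohTop.Ab X)) :
    TopCat.Sheaf.IsFlasque (limit M : CohTop.Ab X) := by
  refine ⟨fun {U V} g => (AddCommGrpCat.epi_iff_surjective _).2 fun a => ?_⟩
  obtain ⟨U⟩ := U; obtain ⟨V⟩ := V
  let P : ∀ n, (M.obj (op n)).obj.obj (op U) → Prop := fun n s =>
    (M.obj (op n)).obj.map g s = (limit.π M (op n)).hom.app (op V) a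
  have step : ∀ n (s : (M.obj (op n)).obj.obj (op U)), P n s →
      ∃ t, P (n + 1) t ∧ (tr M n).hom.app (op U) t = s := by
    intro n s hs
    haveI := h2 n
    obtain ⟨t, ht⟩ := surjective_of_flasque_kernel (tr M n) (h3 n) U s
    let d := (limit.π M (op (n + 1))).hom.app (op V) a - (M.obj (op (n + 1))).obj.map g t
    have hd : (tr M n).hom.app (op V) d = 0 := by
      rw [map_sub, π_tr, NatTrans.naturality_apply, ht]
      exact sub_eq_zero.2 hs.symm
    obtain ⟨c, hc⟩ := exists_kernel_section (tr M n) V d hd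
    obtain ⟨c', hc'⟩ := (AddCommGrpCat.epi_iff_surjective _).1 ((h3 n).epi g) c
    refine ⟨t + (kernel.ι (tr M n)).hom.app (op U) c', ?_, ?_⟩
    · change (M.obj (op (n + 1))).obj.map g _ = _
      rw [map_add, ← NatTrans.naturality_apply, hc', hc, add_sub_cancel]
    · have h0 : (tr M n).hom.app (op U) ((kernel.ι (tr M n)).hom.app (op U) c') = 0 :=
        congrArg (fun (f : (kernel (tr M n) : CohTop.Ab X) ⟶ M.obj (op n)) => f.hom.app (op U) c')
          (kernel.condition (tr M n))
      rw [map_add, ht, h0, add_zero]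
  choose nx hnx using step
  obtain ⟨s0, hs0⟩ := (AddCommGrpCat.epi_iff_surjective _).1 ((h1 0).epi g) ((limit.π M (op 0)).hom.app (op V) a)
  let fam : ∀ n, {s // P n s} := fun n => Nat.rec ⟨s0, hs0⟩ (fun n s => ⟨nx n s.1 s.2, (hnx n s.1 s.2).1⟩) n
  obtain ⟨x, hx⟩ := exists_of_family M U (fun n => (fam n).1) fun n => (hnx n (fam n).1 (fam n).2).2
  refine ⟨x, ext_of_family M V _ _ fun n => ?_⟩
  rw [NatTrans.naturality_apply, hx]
  exact (fam n).2

theorem epi_limMap (S : ShortComplex (ℕᵒᵖ ⥤ CohTop.Ab X)) (hS : S.ShortExact)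
    (h1 : ∀ n, TopCat.Sheaf.IsFlasque (S.X₁.obj (op n))) (h2 : ∀ n, Epi (tr S.X₁ n))
    (h3 : ∀ n, TopCat.Sheaf.IsFlasque (kernel (tr S.X₁ n) : CohTop.Ab X)) :
    Epi (limMap S.g) := by
  have hSn : ∀ n, (S.map ((evaluation ℕᵒᵖ (CohTop.Ab X)).obj (op n))).ShortExact := fun n =>
    hS.map_of_exact _
  have hsurj : ∀ (n : ℕ) (V : Opens X), Function.Surjective ((S.g.app (op n)).hom.app (op V)) := fun n V => by
    haveI : TopCat.Sheaf.IsFlasque (S.map ((evaluation ℕᵒᵖ (CohTop.Ab X)).obj (op n))).X₁ := h1 n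
    exact (AddCommGrpCat.epi_iff_surjective _).1 (TopCat.Sheaf.IsFlasque.epi_of_shortExact (hSn n))
  haveI hV : ∀ V : (Opens X)ᵒᵖ, Epi ((limMap S.g).hom.app V) := fun V => by
    obtain ⟨V⟩ := V
    refine (AddCommGrpCat.epi_iff_surjective _).2 fun a => ?_
    let P : ∀ n, (S.X₂.obj (op n)).obj.obj (op V) → Prop := fun n s =>
      (S.g.app (op n)).hom.app (op V) s = (limit.π S.X₃ (op n)).hom.app (op V) a
    have nat2 : ∀ n t, (S.g.app (op n)).hom.app (op V) ((tr S.X₂ n).hom.app (op V) t) =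
        (tr S.X₃ n).hom.app (op V) ((S.g.app (op (n + 1))).hom.app (op V) t) := fun n t =>
      congrArg (fun (f : S.X₂.obj (op (n + 1)) ⟶ S.X₃.obj (op n)) => f.hom.app (op V) t)
        (S.g.naturality (homOfLE (Nat.le_succ n)).op)
    have step : ∀ n (s : (S.X₂.obj (op n)).obj.obj (op V)), P n s →
        ∃ t, P (n + 1) t ∧ (tr S.X₂ n).hom.app (op V) t = s := by
      intro n s hs
      obtain ⟨t, ht⟩ := hsurj (n + 1) V ((limit.π S.X₃ (op (n + 1))).hom.app (op V) a)
      let d := s - (tr S.X₂ n).hom.app (op V) t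
      have hd : (S.g.app (op n)).hom.app (op V) d = 0 := by
        rw [map_sub, nat2, ht, π_tr]
        exact sub_eq_zero.2 hs
      let G : CohTop.Ab X ⥤ AddCommGrpCat.{u} :=
        sheafToPresheaf _ _ ⋙ (evaluation (Opens X)ᵒᵖ AddCommGrpCat.{u}).obj (op V)
      haveI := (hSn n).mono_f
      obtain ⟨c, hc⟩ := ((ShortComplex.ab_exact_iff _).1
        ((hSn n).exact.map_of_mono_of_preservesKernel G inferInstance inferInstance)) d hd
      haveI := h2 n
      obtain ⟨c', hc'⟩ := surjective_of_flasque_kernel (tr S.X₁ n) (h3 n) V c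
      refine ⟨t + (S.f.app (op (n + 1))).hom.app (op V) c', ?_, ?_⟩
      · have h0 : (S.g.app (op (n + 1))).hom.app (op V) ((S.f.app (op (n + 1))).hom.app (op V) c') = 0 :=
          congrArg (fun (f : S.X₁ ⟶ S.X₃) => (f.app (op (n + 1))).hom.app (op V) c') S.zero
        change (S.g.app (op (n + 1))).hom.app (op V) _ = _
        rw [map_add, ht, h0, add_zero]
      · have h1' : (tr S.X₂ n).hom.app (op V) ((S.f.app (op (n + 1))).hom.app (op V) c') =
            (S.f.app (op n)).hom.app (op V) ((tr S.X₁ n).hom.app (op V) c') :=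
          (congrArg (fun (f : S.X₁.obj (op (n + 1)) ⟶ S.X₂.obj (op n)) => f.hom.app (op V) c')
            (S.f.naturality (homOfLE (Nat.le_succ n)).op)).symm
        rw [map_add, h1', hc']
        exact (congrArg _ hc).trans (add_sub_cancel _ _)
    choose nx hnx using step
    obtain ⟨s0, hs0⟩ := hsurj 0 V ((limit.π S.X₃ (op 0)).hom.app (op V) a)
    let fam : ∀ n, {s // P n s} := fun n => Nat.rec ⟨s0, hs0⟩ (fun n s => ⟨nx n s.1 s.2, (hnx n s.1 s.2).1⟩) n
    obtain ⟨x, hx⟩ := exists_of_family S.X₂ V (fun n => (fam n).1) fun n => (hnx n (fam n).1 (fam n).2).2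
    refine ⟨x, ext_of_family S.X₃ V _ _ fun n => ?_⟩
    have h : (limit.π S.X₃ (op n)).hom.app (op V) ((limMap S.g).hom.app (op V) x) =
        (S.g.app (op n)).hom.app (op V) ((limit.π S.X₂ (op n)).hom.app (op V) x) :=
      congrArg (fun (f : limit S.X₂ ⟶ S.X₃.obj (op n)) => f.hom.app (op V) x) (limMap_π S.g (op n))
    rw [h, hx]
    exact (fam n).2
  haveI : Epi ((sheafToPresheaf _ _).map (limMap S.g)) :=
    haveI : ∀ V, Epi (((sheafToPresheaf _ _).map (limMap S.g)).app V) := hV
    NatTrans.epi_of_epi_app _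
  exact (sheafToPresheaf (Opens.grothendieckTopology X) AddCommGrpCat.{u}).epi_of_epi_map inferInstance

end Groth.L04.FlasqueTower
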