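import Groth.Agent.L04.Koszul.Punctured
import Groth.Agent.L04.Koszul.Main
import Groth.Agent.L04.SupportSh.Affine
import Groth.Agent.L04.SupportSh.Flasque
import Groth.Agent.L04.SupportSh.Criteria
import Groth.Agent.L07.KoszulFlat
import Groth.Agent.L07.KoszulPerm
import Groth.Agent.L16.FlatQuot.Push
import Groth.Agent.L18.GammaLCMod
import Groth.Agent.L04.ExtZ.Bridge
import Groth.Prelude.Def_FlatMod2

/-!
# Local cohomology along Koszul-regular closed sets
-/

set_option autoImplicit false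
set_option backward.isDefEq.respectTransparency false
set_option linter.style.haveILetI false

universe u

open CategoryTheory CategoryTheory.Limits Opposite TopologicalSpace AlgebraicGeometry CohIII

noncomputable section

namespace Groth.L04.SupportSh.KoszulVanish

section Algebra

variable {A : Type u} [CommRing A]

/-- Powers of the entries keep the vanishing of Koszul cohomology below the top degree. -/
theorem isZero_pow_cons (a : A) (l : List A) (n : ℕ) (h : ∀ i : ℤ, i < 0 →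
      IsZero ((koszulCx (ModuleCat.of A A) (a :: l)).homology i)) (i : ℤ) (hi : i < 0) :
    IsZero ((koszulCx (ModuleCat.of A A) (a ^ n :: l)).homology i) := by
  obtain ⟨h1, h2⟩ := (Groth.L04.Koszul.isZero_cone_smul_iff _ a i (i + 1) rfl).1 (h i hi)
  refine (Groth.L04.Koszul.isZero_cone_smul_iff _ (a ^ n) i (i + 1) rfl).2 ⟨fun c => ?_, fun c hc => ?_⟩
  · clear h2
    induction n generalizing c with
    | zero => exact ⟨c, by simp⟩
    | succ k ih =>
      obtain ⟨c', rfl⟩ := h1 c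
      obtain ⟨c'', rfl⟩ := ih c'
      exact ⟨c'', by rw [pow_succ', mul_smul]⟩
  · clear h1
    induction n generalizing c with
    | zero => simpa using hc
    | succ k ih =>
      rw [pow_succ', mul_smul] at hc
      exact ih c (h2 _ hc)

theorem isZero_pow (n : ℕ) : ∀ (l r : List A),
    (∀ i : ℤ, i < 0 → IsZero ((koszulCx (ModuleCat.of A A) (l ++ r)).homology i)) →
      ∀ i : ℤ, i < 0 → IsZero ((koszulCx (ModuleCat.of A A) (l.map (· ^ n) ++ r)).homology i) := by
  intro l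
  induction l with
  | nil => intro r h; exact h
  | cons a t ih =>
    intro r h i hi
    have h2 : ∀ j : ℤ, j < 0 → IsZero ((koszulCx (ModuleCat.of A A) (t ++ a ^ n :: r)).homology j) := fun j hj =>
      (Groth.L07.KoszulPerm.isZero_perm _ List.perm_middle.symm j).1
        (isZero_pow_cons a (t ++ r) n h j hj)
    exact (Groth.L07.KoszulPerm.isZero_perm _ List.perm_middle i).1 (ih (a ^ n :: r) h2 i hi)

theorem subsingleton_HLim (fs : List A) (hreg : LCI.IsKoszulRegularSeq A fs) (M : ModuleCat.{u} A)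
    [Module.Flat A M] (j : ℤ) (hj : j < 0) : Subsingleton (Groth.L04.Koszul.HLim fs M j) := by
  refine Groth.L04.Koszul.subsingleton_HLim fs M j fun n c => ⟨n, le_rfl, ?_⟩
  refine @Subsingleton.elim _ (ModuleCat.subsingleton_of_isZero ?_) _ _
  refine Groth.L07.KoszulFlat.isZero_of_flat M _ j ?_
  have h := isZero_pow n fs [] (by
    simpa using (Groth.L07.KoszulPerm.isKoszulRegularSeq_iff fs).1 hreg) j hj
  simpa using h

theorem punctured_of_koszulRegular (fs : List A) (hreg : LCI.IsKoszulRegularSeq A fs) (N : ModuleCat.{u} A)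
    [Module.Flat A N] :
    (0 < fs.length → Function.Injective ((Coh.toAb (tilde (R := CommRingCat.of A) N)).obj.map
        (homOfLE (le_top : LocCoh.puncturedOpen A (Ideal.span {a | a ∈ fs}) ≤ ⊤)).op)) ∧
    (1 < fs.length → Function.Surjective ((Coh.toAb (tilde (R := CommRingCat.of A) N)).obj.map
        (homOfLE (le_top : LocCoh.puncturedOpen A (Ideal.span {a | a ∈ fs}) ≤ ⊤)).op)) ∧
    ∀ p, 1 ≤ p → p + 1 < fs.length → Subsingleton
      (Coh.HHon (Spec (CommRingCat.of A)) (tilde (R := CommRingCat.of A) N)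
        (LocCoh.puncturedOpen A (Ideal.span {a | a ∈ fs})) p) := by
  let D := Groth.L04.Koszul.Cech.tildeLocData (Groth.L04.Koszul.Cech.fam fs) N
  have hts : ∀ V : (Spec (CommRingCat.of A)).Opens,
      D.toSect V = (tilde.toOpen (R := CommRingCat.of A) N V).hom := fun V =>
    (ModuleCat.hom_comp _ _).symm.trans (congrArg ModuleCat.Hom.hom
      (tilde.toOpen_res (R := CommRingCat.of A) N ⊤ V (homOfLE le_top)))
  have hQ : TopCat.Presheaf.IsSheaf (D.Q : TopCat.Presheaf AddCommGrpCat.{u} (Spec (CommRingCat.of A)).toTopCat) :=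
    (tilde (R := CommRingCat.of A) N).isSheaf
  obtain ⟨⟨a⟩, ⟨b⟩⟩ := Groth.L04.Koszul.Cech.nonempty_ker_coker_equiv fs N D hQ (-(fs.length : ℤ))
    (((1 : ℕ) : ℤ) - fs.length) (by omega) (by omega)
  rw [hts, ← Groth.L04.Koszul.Cech.puncturedOpen_eq] at a b
  let τ := (tilde.toOpen (R := CommRingCat.of A) N ⊤)
  let T := (tilde.toOpen (R := CommRingCat.of A) N (LocCoh.puncturedOpen A (Ideal.span {a | a ∈ fs}))).hom
  let r := (Coh.toAb (tilde (R := CommRingCat.of A) N)).obj.map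
    (homOfLE (le_top : LocCoh.puncturedOpen A (Ideal.span {a | a ∈ fs}) ≤ ⊤)).op
  have hτ : Function.Bijective τ.hom :=
    (@asIso _ _ _ _ τ (tilde.isIso_toOpen_top (R := CommRingCat.of A) (M := N))).toLinearEquiv.bijective
  have hT : ∀ m, T m = r (τ.hom m) := fun m =>
    (congrArg (fun φ : N ⟶ _ => φ.hom m) (tilde.toOpen_res (R := CommRingCat.of A) N ⊤ _ (homOfLE le_top))).symm
  refine ⟨fun hn => ?_, fun hn => ?_, fun p hp hpn => ?_⟩
  · haveI := subsingleton_HLim fs hreg N (-(fs.length : ℤ)) (by omega)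
    have hker : LinearMap.ker T = ⊥ := Submodule.subsingleton_iff_eq_bot.1 a.toEquiv.subsingleton
    intro x y hxy
    obtain ⟨x, rfl⟩ := hτ.2 x
    obtain ⟨y, rfl⟩ := hτ.2 y
    rw [LinearMap.ker_eq_bot.1 hker ((hT x).trans (hxy.trans (hT y).symm))]
  · haveI := subsingleton_HLim fs hreg N (((1 : ℕ) : ℤ) - fs.length) (by omega)
    have hrange : LinearMap.range T = ⊤ := Submodule.Quotient.subsingleton_iff.1 b.toEquiv.subsingleton
    intro y
    obtain ⟨m, hm⟩ := LinearMap.range_eq_top.1 hrange y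
    exact ⟨τ.hom m, (hT m).symm.trans hm⟩
  · obtain ⟨e⟩ := Groth.L04.Koszul.Cech.nonempty_hhon_punctured fs N p hp
    haveI := subsingleton_HLim fs hreg N (((p + 1 : ℕ) : ℤ) - fs.length) (by omega)
    exact e.toEquiv.subsingleton

end Algebra

variable {X : Scheme.{u}} (U : X.Opens) (M : X.Modules)

theorem affine_conditions [Coh.IsQCoh M] (hFl : FlatMod.IsFlat M) {V : X.Opens} (hV : IsAffineOpen V)
    (fs : List Γ(X, V)) (hreg : LCI.IsKoszulRegularSeq Γ(X, V) fs)
    (hz : X.zeroLocus (U := V) {a | a ∈ fs} ∩ (V : Set X) = (U : Set X)ᶜ ∩ (V : Set X)) :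
    (0 < fs.length → Function.Injective ((Coh.toAb M).obj.map (homOfLE (inf_le_left : V ⊓ U ≤ V)).op)) ∧
    (1 < fs.length → Function.Surjective ((Coh.toAb M).obj.map (homOfLE (inf_le_left : V ⊓ U ≤ V)).op)) ∧
    ∀ p, 1 ≤ p → p + 1 < fs.length → Subsingleton (CohTop.HU (X := X.toTopCat) (Coh.toAb M) p (V ⊓ U)) := by
  let j := hV.fromSpec
  haveI : (M.restrict j).IsQuasicoherent := Scheme.Modules.isQuasicoherent_restrictFunctor j M
  let N : ModuleCat.{u} Γ(X, V) := (moduleSpecΓFunctor (R := Γ(X, V))).obj (M.restrict j)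
  have e2 : j ''ᵁ (⊤ : (Spec Γ(X, V)).Opens) = V := by
    rw [Scheme.Hom.image_top_eq_opensRange, hV.opensRange_fromSpec]
  let el : N →ₗ[Γ(X, V)] Γ(M, V) :=
    { toFun := fun s => Groth.L18.Frame.rs M e2.ge (show Γ(M, j ''ᵁ ⊤) from s)
      map_add' := fun a b => map_add (M.presheaf.map (homOfLE e2.ge).op).hom a b
      map_smul' := fun r s =>
        Groth.L20.ModStalk.finitePresentation_sections_affine.appIso_smul M hV r (show Γ(M, j ''ᵁ ⊤) from s) }
  have hel : Function.Bijective el := Function.bijective_iff_has_inverse.2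
    ⟨fun t => (show Γ(M, j ''ᵁ ⊤) from Groth.L18.Frame.rs M e2.le t),
      fun s => by
        show Groth.L18.Frame.rs M e2.le (Groth.L18.Frame.rs M e2.ge (show Γ(M, j ''ᵁ ⊤) from s)) = _
        rw [Groth.L18.Frame.rs_rs]
        exact Groth.L18.Frame.rs_self M _ _,
      fun t => by
        show Groth.L18.Frame.rs M e2.ge (Groth.L18.Frame.rs M e2.le t) = t
        rw [Groth.L18.Frame.rs_rs]
        exact Groth.L18.Frame.rs_self M _ _⟩
  haveI := Groth.L16.FlatQuot.flat_sections_of_isFlatAt M hV fun x _ => hFl x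
  haveI : Module.Flat Γ(X, V) N := (Module.Flat.equiv_iff (LinearEquiv.ofBijective el hel)).2 inferInstance
  let W : (Spec Γ(X, V)).Opens := j ⁻¹ᵁ U
  let I : Ideal Γ(X, V) := Ideal.span {a | a ∈ fs}
  have hI : W = LocCoh.puncturedOpen Γ(X, V) I := by
    apply Opens.ext
    show (SetLike.coe W : Set (PrimeSpectrum Γ(X, V))) = (PrimeSpectrum.zeroLocus (I : Set Γ(X, V)))ᶜ
    rw [PrimeSpectrum.zeroLocus_span, ← hV.fromSpec_preimage_zeroLocus]
    ext q
    have hq : j q ∈ (V : Set X) := hV.opensRange_fromSpec.le ⟨q, rfl⟩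
    show j q ∈ (U : Set X) ↔ ¬ j q ∈ X.zeroLocus (U := V) {a | a ∈ fs}
    constructor
    · intro hqU hqz
      exact ((Set.ext_iff.1 hz (j q)).1 ⟨hqz, hq⟩).1 hqU
    · intro hqz
      by_contra hqU
      exact hqz ((Set.ext_iff.1 hz (j q)).2 ⟨hqU, hq⟩).1
  obtain ⟨c0, c1, c2⟩ := punctured_of_koszulRegular fs hreg N
  haveI : IsIso (M.restrict j).fromTildeΓ :=
    Scheme.Modules.isIso_fromTildeΓ_of_isQuasicoherent (R := Γ(X, V)) _
  let e : tilde N ≅ M.restrict j := asIso (M.restrict j).fromTildeΓ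
  let eA : Coh.toAb (tilde (R := CommRingCat.of Γ(X, V)) N) ≅ Coh.toAb (M.restrict j) :=
    (SheafOfModules.toSheaf.{u} _).mapIso e
  have himg : j ''ᵁ W = V ⊓ U := by
    rw [Scheme.Hom.image_preimage_eq_opensRange_inf, hV.opensRange_fromSpec]
  obtain ⟨hi, hs⟩ := res_iso_congr eA (le_top : LocCoh.puncturedOpen Γ(X, V) I ≤ ⊤)
  obtain ⟨hi', hs'⟩ := res_congr (Coh.toAb M) e2 (show j ''ᵁ LocCoh.puncturedOpen Γ(X, V) I = V ⊓ U from hI ▸ himg)
    (Scheme.Hom.image_mono j le_top) inf_le_left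
  refine ⟨fun h => (hi.trans hi').1 (c0 h), fun h => (hs.trans hs').1 (c1 h), fun p hp hpn => ?_⟩
  obtain ⟨a⟩ := Groth.L17.nonempty_hhon_equiv (tilde (R := CommRingCat.of Γ(X, V)) N) (LocCoh.puncturedOpen Γ(X, V) I) p
  obtain ⟨b⟩ := Groth.L17.nonempty_hu_image j (LocCoh.puncturedOpen Γ(X, V) I) (Coh.toAb M) p
  rw [show j ''ᵁ LocCoh.puncturedOpen Γ(X, V) I = V ⊓ U from hI ▸ himg] at b
  refine (a.toEquiv.subsingleton_congr.trans (Equiv.subsingleton_congr ?_)).1 (c2 p hp hpn)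
  refine Equiv.trans ?_ b.symm.toEquiv
  exact { toFun := fun x => x.comp (Abelian.Ext.mk₀ eA.hom) (add_zero p)
          invFun := fun x => x.comp (Abelian.Ext.mk₀ eA.inv) (add_zero p)
          left_inv := fun x => by simp
          right_inv := fun x => by simp }

/-- Low-degree vanishing along a locally Koszul-regular closed set. -/
theorem isZero_HZsh_toAb [Coh.IsQCoh M] (hFl : FlatMod.IsFlat M) (c : ℕ)
    (hZ : ∀ x : X, ∃ (V : X.Opens) (fs : List Γ(X, V)), x ∈ V ∧ IsAffineOpen V ∧ fs.length = c ∧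
      LCI.IsKoszulRegularSeq Γ(X, V) fs ∧
      X.zeroLocus (U := V) {a | a ∈ fs} ∩ (V : Set X) = (U : Set X)ᶜ ∩ (V : Set X)) (i : ℕ) (hi : i < c) :
    IsZero ((LocCohZ.HZsh (X := X.toTopCat) U i).obj (Coh.toAb M)) := by
  let B : Set (Opens X.toTopCat) := {W : X.Opens | IsAffineOpen W ∧ ∃ fs : List Γ(X, W), fs.length = c ∧
    LCI.IsKoszulRegularSeq Γ(X, W) fs ∧
    X.zeroLocus (U := W) {a | a ∈ fs} ∩ (W : Set X) = (U : Set X)ᶜ ∩ (W : Set X)}
  have hB : Opens.IsBasis B := by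
    refine Opens.isBasis_iff_nbhd.2 fun {O x} hx => ?_
    obtain ⟨V, fs, hxV, hV, hc, hreg, hz⟩ := hZ x
    obtain ⟨W, hW, hxW, hWO⟩ := Opens.isBasis_iff_nbhd.1 X.isBasis_affineOpens (show x ∈ O ⊓ V from ⟨hx, hxV⟩)
    have hWV : W ≤ V := hWO.trans inf_le_right
    have hρ : (X.presheaf.map (homOfLE hWV).op).hom.Flat := by
      have := Flat.flat_appLE (𝟙 X) hV hW hWV
      simpa [Scheme.Hom.appLE] using this
    refine ⟨W, ⟨hW, fs.map (X.presheaf.map (homOfLE hWV).op).hom, by simpa using hc,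
      Groth.L07.KoszulFlat.isKoszulRegularSeq_map _ hρ fs hreg, ?_⟩, hxW, hWO.trans inf_le_left⟩
    ext y
    refine ⟨fun ⟨hy, hyW⟩ => ⟨((Set.ext_iff.1 hz y).1 ⟨(X.mem_zeroLocus_iff _ _).2 fun f hf hyf => ?_, hWV hyW⟩).1, hyW⟩,
      fun ⟨hy, hyW⟩ => ⟨(X.mem_zeroLocus_iff _ _).2 fun g hg hyg => ?_, hyW⟩⟩
    · refine (X.mem_zeroLocus_iff _ _).1 hy _ (List.mem_map.2 ⟨f, hf, rfl⟩) ?_
      rw [Scheme.basicOpen_res]
      exact ⟨hyW, hyf⟩
    · obtain ⟨f, hf, rfl⟩ := List.mem_map.1 hg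
      rw [Scheme.basicOpen_res] at hyg
      exact (X.mem_zeroLocus_iff _ _).1 ((Set.ext_iff.1 hz y).2 ⟨hy, hWV hyW⟩).1 f hf hyg.2
  refine isZero_HZsh_of_basis (X := X.toTopCat) U (Coh.toAb M) B hB (fun V hV q hq => ?_) c (fun hn V hV => ?_)
    (fun hn V hV => ?_) (fun p hp hpn V hV => ?_) i hi
  · obtain ⟨k, rfl⟩ : ∃ k, q = k + 1 := ⟨q - 1, by omega⟩
    exact subsingleton_of_forall_eq 0 (Groth.L17.hu_affine_eq_zero M hV.1 k)
  · obtain ⟨hVa, fs, hc, hreg, hz⟩ := hV
    exact (affine_conditions U M hFl hVa fs hreg hz).1 (by omega)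
  · obtain ⟨hVa, fs, hc, hreg, hz⟩ := hV
    exact (affine_conditions U M hFl hVa fs hreg hz).2.1 (by omega)
  · obtain ⟨hVa, fs, hc, hreg, hz⟩ := hV
    exact (affine_conditions U M hFl hVa fs hreg hz).2.2 p hp (by omega)

open Groth.L17 Groth.L18.GammaLC in
theorem isZero_gammaZ_of_toAb [HasInjectiveResolutions X.Modules] (q : ℕ)
    (h : IsZero ((LocCohZ.HZsh (X := X.toTopCat) U q).obj (Coh.toAb M))) :
    IsZero (((DCoh.gammaZ U.ι).rightDerived q).obj M) := by
  obtain ⟨α⟩ := nonempty_gammaZ_toAb U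
  haveI : PreservesFiniteLimits (toAbShF X) :=
    inferInstanceAs (PreservesFiniteLimits (SheafOfModules.toSheaf.{u} X.ringCatSheaf))
  haveI : PreservesFiniteColimits (toAbShF X) :=
    inferInstanceAs (PreservesFiniteColimits (SheafOfModules.toSheaf.{u} X.ringCatSheaf))
  obtain ⟨e₁⟩ := Groth.L27.StalkRpush.nonempty_rightDerived_comp_exact (DCoh.gammaZ U.ι) (toAbShF X) q
  obtain ⟨e₂⟩ := rightDerived_natIso α M q
  haveI := Groth.L04.ExtZ.preservesFiniteLimits_sectSuppF (T := X.toTopCat) U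
  letI := HasDerivedCategory.standard (Sheaf (Opens.grothendieckTopology X) AddCommGrpCat.{u})
  obtain ⟨e₃⟩ := GrothSS.nonempty_rightDerived_exact_comp (toAbShF X) (LocCohZ.sectSuppF (X := X.toTopCat) U)
    (fun Q hQ q hq => by
      obtain ⟨k, rfl⟩ : ∃ k, q = k + 1 := ⟨q - 1, by omega⟩
      have hF : TopCat.Sheaf.IsFlasque (Coh.toAb Q) := PushMV.isFlasque_of_injective Q
      exact isZero_HZsh_succ (X := X.toTopCat) U (Coh.toAb Q) k fun V =>
        res_surjective_of_flasque _ hF k _) M q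
  exact PushQCoh.isZero_of_toAb (h.of_iso ((e₁.app M).symm ≪≫ e₂ ≪≫ e₃))

end Groth.L04.SupportSh.KoszulVanish
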