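import Groth.Agent.L17.PushQCoh
import Groth.Agent.L17.QCohExtension
import Groth.Agent.L20.Strat.Stratification
import Groth.Agent.L16.Devissage
import Groth.Prelude.Def_LocCohZ

/-!
# Local cohomology sheaves of quasi-coherent modules
-/

set_option autoImplicit false
set_option backward.isDefEq.respectTransparency false

universe u v v' u'

open CategoryTheory CategoryTheory.Limits AlgebraicGeometry TopologicalSpace Opposite

namespace Groth.L04.SupportSh

/-- Degree zero: the derived functor of a kernel is a kernel. -/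
theorem prop_rightDerived_zero {C : Type u} [Category.{v} C] [Abelian C] [HasInjectiveResolutions C]
    {D : Type u'} [Category.{v'} D] [Abelian D] {F₁ F₂ F₃ : C ⥤ D} [F₁.Additive] [F₂.Additive] [F₃.Additive]
    (φ : F₁ ⟶ F₂) (ψ : F₂ ⟶ F₃) (w : φ ≫ ψ = 0)
    (hex : ∀ I : C, Injective I → (ShortComplex.mk (φ.app I) (ψ.app I) (by
      rw [← NatTrans.comp_app, w, zero_app])).ShortExact)
    (P : ObjectProperty D) [P.IsClosedUnderIsomorphisms]
    (hker : ∀ {A B : D} (f : A ⟶ B), P A → P B → P (kernel f))
    (M : C) (h2 : P ((F₂.rightDerived 0).obj M)) (h3 : P ((F₃.rightDerived 0).obj M)) :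
    P ((F₁.rightDerived 0).obj M) := by
  let I := injectiveResolution M
  let S : ShortComplex (CochainComplex D ℕ) := ShortComplex.mk
    ((NatTrans.mapHomologicalComplex φ (.up ℕ)).app I.cocomplex)
    ((NatTrans.mapHomologicalComplex ψ (.up ℕ)).app I.cocomplex) (by
      ext i
      show φ.app _ ≫ ψ.app _ = 0
      rw [← NatTrans.comp_app, w, zero_app])
  have hS : S.ShortExact :=
    HomologicalComplex.shortExact_of_degreewise_shortExact S fun i => hex _ (I.injective i)
  have hf : Mono (HomologicalComplex.homologyMap S.f 0) := by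
    have h : S.X₁.homologyπ 0 ≫ HomologicalComplex.homologyMap S.f 0 =
        HomologicalComplex.cyclesMap S.f 0 ≫ S.X₂.homologyπ 0 := HomologicalComplex.homologyπ_naturality _ _
    haveI : Mono (S.f.f 0) := (hex _ (I.injective 0)).mono_f
    haveI : Mono (HomologicalComplex.cyclesMap S.f 0) := by
      refine @mono_of_mono _ _ _ _ _ _ (S.X₂.iCycles 0) ?_
      rw [HomologicalComplex.cyclesMap_i]
      infer_instance
    have e : HomologicalComplex.homologyMap S.f 0 =
        inv (S.X₁.homologyπ 0) ≫ HomologicalComplex.cyclesMap S.f 0 ≫ S.X₂.homologyπ 0 := by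
      rw [← h, IsIso.inv_hom_id_assoc]
    rw [e]
    infer_instance
  refine P.prop_of_iso (I.isoRightDerivedObj F₁ 0).symm ?_
  refine P.prop_of_iso ?_ (hker (HomologicalComplex.homologyMap S.g 0)
    (P.prop_of_iso (I.isoRightDerivedObj F₂ 0) h2) (P.prop_of_iso (I.isoRightDerivedObj F₃ 0) h3))
  exact (kernelIsKernel _).conePointUniqueUpToIso (hS.homology_exact₂ 0).fIsKernel

variable {U Y : Scheme.{u}} (j : U ⟶ Y) [IsOpenImmersion j]

/-- The inclusion `Γ_Z ⟶ 𝟭`. -/
noncomputable def inclM : DCoh.gammaZ j ⟶ 𝟭 Y.Modules where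
  app M := kernel.ι ((Scheme.Modules.restrictAdjunction j).unit.app M)
  naturality _ _ φ := kernel.lift_ι _ _ _

theorem inclM_unit : inclM j ≫ (Scheme.Modules.restrictAdjunction j).unit = 0 := by
  ext M : 2
  exact kernel.condition _

theorem shortExact_of_injective (I : Y.Modules) (hI : Injective I) :
    (ShortComplex.mk ((inclM j).app I) ((Scheme.Modules.restrictAdjunction j).unit.app I) (by
      rw [← NatTrans.comp_app, inclM_unit, zero_app])).ShortExact := by
  refine ShortComplex.ShortExact.mk' ?_ ?_ ?_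
  · exact ShortComplex.exact_of_f_is_kernel _ (kernelIsKernel _)
  · exact inferInstanceAs (Mono (kernel.ι ((Scheme.Modules.restrictAdjunction j).unit.app I)))
  · refine ⟨fun {Z} a b hab => Scheme.Modules.hom_ext _ _ fun T => ?_⟩
    ext z
    obtain ⟨y, hy⟩ := Groth.L17.PushMV.surjective_res_of_injective I (j.image_preimage_le T) z
    have := congr($(hab).app T y)
    refine Eq.trans ?_ (this.trans ?_)
    · exact (congrArg (a.app T) hy).symm
    · exact congrArg (b.app T) hy

theorem isQCoh_of_isZero {N : Y.Modules} (h : IsZero N) : Coh.IsQCoh N := by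
  refine Groth.L00.Local.isQCoh_of_tilde_charts _ fun x => ?_
  obtain ⟨_, ⟨V, hV, rfl⟩, hxV, -⟩ :=
    Y.isBasis_affineOpens.exists_subset_of_mem_open (Set.mem_univ x) isOpen_univ
  refine ⟨_, hV.fromSpec, inferInstance, ModuleCat.of Γ(Y, V) PUnit.{u + 1}, hV.opensRange_fromSpec.ge hxV,
    ⟨((Scheme.Modules.restrictFunctor hV.fromSpec).map_isZero h).iso ((tilde.functor Γ(Y, V)).map_isZero ?_)⟩⟩
  exact ModuleCat.isZero_of_subsingleton _

theorem isQCoh_HZshM [QuasiCompact j] [HasInjectiveResolutions Y.Modules] (M : Y.Modules) [Coh.IsQCoh M] (q : ℕ) :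
    Coh.IsQCoh ((LocCohZ.HZshM j q).obj M) := by
  haveI := Groth.L17.PushQCoh.hasInjectiveResolutions U
  haveI hF3add : (Scheme.Modules.restrictFunctor j ⋙ Scheme.Modules.pushforward j).Additive :=
    haveI : (Scheme.Modules.restrictFunctor j).Additive :=
      haveI := preservesBinaryBiproducts_of_preservesBinaryCoproducts (Scheme.Modules.restrictFunctor j)
      Functor.additive_of_preservesBinaryBiproducts _
    inferInstance
  haveI : Coh.IsQCoh (M.restrict j) := Scheme.Modules.isQuasicoherent_restrictFunctor j M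
  have h3 : ∀ n, Coh.IsQCoh (((Scheme.Modules.restrictFunctor j ⋙ Scheme.Modules.pushforward j).rightDerived n).obj M) :=
    fun n => by
      obtain ⟨e⟩ := Groth.L17.PushQCoh.nonempty_rightDerived_restrict_push j j M n
      haveI := Groth.L17.PushQCoh.isQCoh_Rpush j (M.restrict j) n
      exact (SheafOfModules.isQuasicoherent Y.ringCatSheaf).prop_of_iso e.symm this
  have h2 : ∀ n, Coh.IsQCoh (((𝟭 Y.Modules).rightDerived n).obj M) := fun n => by
    cases n with
    | zero =>
      exact (SheafOfModules.isQuasicoherent Y.ringCatSheaf).prop_of_iso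
        ((𝟭 Y.Modules).rightDerivedZeroIsoSelf.app M).symm ‹Coh.IsQCoh M›
    | succ k =>
      refine isQCoh_of_isZero (IsZero.of_iso ?_ ((injectiveResolution M).isoRightDerivedObj (𝟭 Y.Modules) (k + 1)))
      refine ShortComplex.exact_iff_isZero_homology _ |>.1 ?_
      exact ((HomologicalComplex.exactAt_iff _ _).1 ((injectiveResolution M).cocomplex_exactAt_succ k))
  haveI : (Groth.L17.PushQCoh.QC Y).IsClosedUnderIsomorphisms := inferInstance
  cases q with
  | zero =>
    exact prop_rightDerived_zero (inclM j) (Scheme.Modules.restrictAdjunction j).unit (inclM_unit j)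
      (shortExact_of_injective j) (Groth.L17.PushQCoh.QC Y)
      (fun f h1 h2 => @Groth.L20.Strat.isQCoh_kernel _ _ _ h1 h2 f) M (h2 0) (h3 0)
  | succ k =>
    exact Groth.L17.DerivedMV.prop_rightDerived_succ (inclM j) (Scheme.Modules.restrictAdjunction j).unit (inclM_unit j)
      (shortExact_of_injective j) (Groth.L17.PushQCoh.QC Y)
      (fun f h1 h2 => @Groth.L20.Strat.isQCoh_kernel _ _ _ h1 h2 f)
      (fun f h1 h2 => @Groth.L16.Devissage.isQCoh_cokernel _ _ _ h1 h2 f)
      (fun S hS h1 h3 => Groth.L17.QCohExtension.isQCoh_extension S hS h1 h3) M k (h2 k) (h3 k) (h2 (k + 1)) (h3 (k + 1))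

end Groth.L04.SupportSh
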