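import Groth.Agent.L04.SupportSh.Acyclic
import Groth.Agent.L04.SupportSh.Basic
import Groth.Agent.L17.SiteSections
import Groth.Agent.L17.HomDerived
import Groth.Agent.L10.SiteRightDerived

/-!
# Sections of local cohomology sheaves in the first non vanishing degree
-/

set_option autoImplicit false
set_option backward.isDefEq.respectTransparency false

universe u

open CategoryTheory CategoryTheory.Limits Opposite TopologicalSpace HomologicalComplex

namespace Groth.L04.SupportSh

variable {X : TopCat.{u}} (U : Opens X)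

/-- Sections over `V` with support. -/
noncomputable abbrev sectV (V : Opens X) : CohTop.Ab X ⥤ AddCommGrpCat.{u} := LocCohZ.sectSuppF U ⋙ secV V

theorem exactAt_of_isZero_HZsh (F : CohTop.Ab X) (q : ℕ) (h : IsZero ((LocCohZ.HZsh U q).obj F)) :
    (((LocCohZ.sectSuppF U).mapHomologicalComplex _).obj (injectiveResolution F).cocomplex).ExactAt q :=
  (exactAt_iff_isZero_homology _ _).2
    (IsZero.of_iso h ((injectiveResolution F).isoRightDerivedObj (LocCohZ.sectSuppF U) q).symm)

theorem isFlasque_terms (F : CohTop.Ab X) (q : ℕ) :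
    TopCat.Sheaf.IsFlasque ((((LocCohZ.sectSuppF U).mapHomologicalComplex (ComplexShape.up ℕ)).obj
      (injectiveResolution F).cocomplex).X q) :=
  haveI := Groth.L10.TopCoh.isFlasque_of_injective ((injectiveResolution F).cocomplex.X q)
  Groth.L17.SectSupp.isFlasque_sectSupp U _

theorem isZero_rightDerived_sectV (V : Opens X) (F : CohTop.Ab X) (d : ℕ)
    (h : ∀ q < d, IsZero ((LocCohZ.HZsh U q).obj F)) (q : ℕ) (hq : q < d) :
    IsZero (((sectV U V).rightDerived q).obj F) := by
  refine IsZero.of_iso ?_ ((injectiveResolution F).isoRightDerivedObj (sectV U V) q)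
  exact (exactAt_iff_isZero_homology _ _).1 (exactAt_sect V _ (isFlasque_terms U F) d
    (fun k hk => exactAt_of_isZero_HZsh U F k (h k hk)) q hq)

/-- In the first non vanishing degree, sections of the local cohomology sheaf compute the derived sections. -/
theorem nonempty_rightDerived_sectV (V : Opens X) (F : CohTop.Ab X) (d : ℕ)
    (h : ∀ q < d, IsZero ((LocCohZ.HZsh U q).obj F)) :
    Nonempty (((sectV U V).rightDerived d).obj F ≅ (secV V).obj ((LocCohZ.HZsh U d).obj F)) := by
  haveI := isIso_homologyComparison V _ (isFlasque_terms U F) d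
    (fun k hk => exactAt_of_isZero_HZsh U F k (h k hk))
  exact ⟨(injectiveResolution F).isoRightDerivedObj (sectV U V) d ≪≫
    asIso (RDer.homologyComparison (secV V) (((LocCohZ.sectSuppF U).mapHomologicalComplex _).obj
      (injectiveResolution F).cocomplex) d) ≪≫
    (secV V).mapIso ((injectiveResolution F).isoRightDerivedObj (LocCohZ.sectSuppF U) d).symm⟩

/-- Global sections of the first non vanishing local cohomology sheaf. -/
theorem nonempty_HZc_addEquiv (F : CohTop.Ab X) (d : ℕ)
    (h : ∀ q < d, IsZero ((LocCohZ.HZsh U q).obj F)) :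
    Nonempty (((LocCohZ.HZsh U d).obj F).obj.obj (op ⊤) ≃+ LocCohZ.HZc F d U) := by
  letI := HasDerivedCategory.standard (CohTop.Ab X)
  obtain ⟨e⟩ := Groth.L17.SectSupp.exists_gammaZIso U
  obtain ⟨e'⟩ := Groth.L17.GrothSS.nonempty_rightDerived_homFun (LocCohZ.zq (le_top : U ≤ ⊤)) F d
  obtain ⟨e''⟩ := nonempty_rightDerived_sectV U ⊤ F d h
  exact ⟨(e''.symm ≪≫ (Groth.L10.SiteCoh.rightDerivedCongr (F := sectV U ⊤) e d).app F ≪≫ e').addCommGroupIsoToAddEquiv⟩

/-- A sheaf whose sections on a basis vanish is zero. -/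
theorem isZero_of_basis (G : CohTop.Ab X) (B : Set (Opens X)) (hB : Opens.IsBasis B)
    (h : ∀ V ∈ B, Subsingleton (G.obj.obj (op V))) : IsZero G := by
  rw [IsZero.iff_id_eq_zero]
  apply Sheaf.hom_ext
  refine NatTrans.ext (funext fun W => ?_)
  obtain ⟨W⟩ := W
  ext s
  show s = 0
  choose V hVB hxV hVW using fun p : W => Opens.isBasis_iff_nbhd.1 hB p.2
  refine TopCat.Sheaf.eq_of_locally_eq' G V W (fun p => homOfLE (hVW p))
    (fun p hp => Opens.mem_iSup.2 ⟨⟨p, hp⟩, hxV ⟨p, hp⟩⟩) s 0 fun p => ?_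
  exact @Subsingleton.elim _ (h _ (hVB p)) _ _

/-- Restriction of sections. -/
noncomputable def resNat {V W : Opens X} (h : W ≤ V) : secV (X := X) V ⟶ secV W where
  app F := F.obj.map (homOfLE h).op
  naturality F G φ := (φ.hom.naturality _).symm

noncomputable def inclV (V : Opens X) : sectV U V ⟶ secV V where
  app F := (Groth.L17.SectSupp.incl U F).hom.app (op V)
  naturality F G φ := congrArg (fun g : (LocCohZ.sectSuppF U).obj F ⟶ G => g.hom.app (op V))
    (Groth.L17.SectSupp.incl_map U φ)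

theorem inclV_res (V : Opens X) (F : CohTop.Ab X) :
    (inclV U V).app F ≫ (resNat (inf_le_left : V ⊓ U ≤ V)).app F = 0 := by
  ext s
  exact Groth.L17.SectSupp.incl_app_mem U F V s

theorem shortExact_sectV (V : Opens X) (I : CohTop.Ab X) (hI : Injective I) :
    (ShortComplex.mk ((inclV U V).app I) ((resNat (inf_le_left : V ⊓ U ≤ V)).app I) (inclV_res U V I)).ShortExact := by
  haveI := Groth.L10.TopCoh.isFlasque_of_injective I
  refine ShortComplex.ShortExact.mk' ?_ ((AddCommGrpCat.mono_iff_injective _).2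
    (Groth.L17.SectSupp.incl_app_injective U I V)) (TopCat.Presheaf.IsFlasque.epi (F := I.obj) _)
  rw [ShortComplex.ab_exact_iff]
  exact fun s hs => Groth.L17.SectSupp.exists_incl_app_eq U I V s hs

instance additive_secV (V : Opens X) : (secV (X := X) V).Additive := inferInstance

theorem isZero_rightDerived_secV (V : Opens X) (F : CohTop.Ab X) (q : ℕ) :
    Subsingleton (CohTop.HU F q V) ↔ IsZero (((secV V).rightDerived q).obj F) := by
  obtain ⟨e⟩ := Groth.L17.GrothSS.nonempty_rightDerived_secFun (Opens.grothendieckTopology X) V F q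
  exact ⟨fun h => IsZero.of_iso (@AddCommGrpCat.isZero_of_subsingleton _ h) e,
    fun h => AddCommGrpCat.subsingleton_of_isZero (IsZero.of_iso h e.symm)⟩

instance preservesFiniteLimits_secV (V : Opens X) : PreservesFiniteLimits (secV (X := X) V) :=
  Groth.L17.SectSupp.preservesFiniteLimits_secFun V

theorem nonempty_sectV_zero (V : Opens X) (F : CohTop.Ab X) :
    Nonempty (((sectV U V).rightDerived 0).obj F ≅ (sectV U V).obj F) := by
  haveI : Mono ((inclV U V).app F) := (AddCommGrpCat.mono_iff_injective _).2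
    (Groth.L17.SectSupp.incl_app_injective U F V)
  refine Groth.L04.FunctorLES.nonempty_iso_zero (inclV U V) (resNat (inf_le_left : V ⊓ U ≤ V)) (inclV_res U V)
    (shortExact_sectV U V) F ?_
  rw [ShortComplex.ab_exact_iff]
  exact fun s hs => Groth.L17.SectSupp.exists_incl_app_eq U F V s hs

/-- Consequences of the vanishing of local cohomology sheaves on a section-acyclic open. -/
theorem res_bijective_of_HZsh (F : CohTop.Ab X) (n : ℕ) (h : ∀ q < n, IsZero ((LocCohZ.HZsh U q).obj F))
    (V : Opens X) (hV : ∀ q, 1 ≤ q → Subsingleton (CohTop.HU F q V)) :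
    (0 < n → Function.Injective (F.obj.map (homOfLE (inf_le_left : V ⊓ U ≤ V)).op)) ∧
    (1 < n → Function.Surjective (F.obj.map (homOfLE (inf_le_left : V ⊓ U ≤ V)).op)) ∧
    ∀ p, 1 ≤ p → p + 1 < n → Subsingleton (CohTop.HU F p (V ⊓ U)) := by
  have hG := isZero_rightDerived_sectV U V F n h
  refine ⟨fun hn => ?_, fun hn => ?_, fun p hp hpn => ?_⟩
  · obtain ⟨e⟩ := nonempty_sectV_zero U V F
    have h0 : Subsingleton ((sectV U V).obj F) := AddCommGrpCat.subsingleton_of_isZero (IsZero.of_iso (hG 0 hn) e.symm)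
    rw [injective_iff_map_eq_zero]
    intro s hs
    obtain ⟨t, rfl⟩ := Groth.L17.SectSupp.exists_incl_app_eq U F V s hs
    rw [@Subsingleton.elim _ h0 t 0]
    exact map_zero _
  · obtain ⟨δ, hδ⟩ := Groth.L04.FunctorLES.exists_δ (inclV U V) (resNat (inf_le_left : V ⊓ U ≤ V))
      (inclV_res U V) (shortExact_sectV U V) 0
    obtain ⟨⟨w, he⟩, -⟩ := hδ F
    haveI : Epi ((NatTrans.rightDerived (resNat (inf_le_left : V ⊓ U ≤ V)) 0).app F) :=
      he.epi_f ((hG 1 hn).eq_of_tgt _ _)
    have hc := Groth.L04.FunctorLES.toRightDerivedZero_rightDerived (resNat (inf_le_left : V ⊓ U ≤ V)) F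
    haveI : Epi ((resNat (inf_le_left : V ⊓ U ≤ V)).app F ≫ (secV (V ⊓ U)).toRightDerivedZero.app F) := by
      rw [← hc]; infer_instance
    refine (AddCommGrpCat.epi_iff_surjective _).1 ?_
    have h2 : Epi (((resNat (inf_le_left : V ⊓ U ≤ V)).app F ≫ (secV (V ⊓ U)).toRightDerivedZero.app F) ≫
        inv ((secV (V ⊓ U)).toRightDerivedZero.app F)) := inferInstance
    rwa [Category.assoc, IsIso.hom_inv_id, Category.comp_id] at h2
  · obtain ⟨δ, hδ⟩ := Groth.L04.FunctorLES.exists_δ (inclV U V) (resNat (inf_le_left : V ⊓ U ≤ V))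
      (inclV_res U V) (shortExact_sectV U V) p
    obtain ⟨⟨w, he⟩, -⟩ := hδ F
    exact (isZero_rightDerived_secV _ F p).2
      (he.isZero_of_both_zeros (((isZero_rightDerived_secV V F p).1 (hV p hp)).eq_of_src _ _)
        ((hG (p + 1) hpn).eq_of_tgt _ _))

/-- Vanishing of local cohomology sheaves from vanishing on a basis. -/
theorem isZero_HZsh_of_basis (F : CohTop.Ab X) (B : Set (Opens X)) (hB : Opens.IsBasis B)
    (hV : ∀ V ∈ B, ∀ q, 1 ≤ q → Subsingleton (CohTop.HU F q V)) (n : ℕ)
    (h0 : 0 < n → ∀ V ∈ B, Function.Injective (F.obj.map (homOfLE (inf_le_left : V ⊓ U ≤ V)).op))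
    (h1 : 1 < n → ∀ V ∈ B, Function.Surjective (F.obj.map (homOfLE (inf_le_left : V ⊓ U ≤ V)).op))
    (h2 : ∀ p, 1 ≤ p → p + 1 < n → ∀ V ∈ B, Subsingleton (CohTop.HU F p (V ⊓ U))) :
    ∀ q < n, IsZero ((LocCohZ.HZsh U q).obj F) := by
  intro q
  induction q using Nat.strong_induction_on with
  | _ q ih =>
    intro hq
    refine isZero_of_basis _ B hB fun V hVB => ?_
    obtain ⟨e⟩ := nonempty_rightDerived_sectV U V F q fun k hk => ih k hk (by omega)
    refine AddCommGrpCat.subsingleton_of_isZero (IsZero.of_iso ?_ e.symm)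
    obtain _ | p := q
    · obtain ⟨e0⟩ := nonempty_sectV_zero U V F
      refine IsZero.of_iso (@AddCommGrpCat.isZero_of_subsingleton _ ⟨fun a b => ?_⟩) e0
      apply Groth.L17.SectSupp.incl_app_injective U F V
      apply h0 hq V hVB
      rw [Groth.L17.SectSupp.incl_app_mem U F V a, Groth.L17.SectSupp.incl_app_mem U F V b]
    obtain ⟨δ, hδ⟩ := Groth.L04.FunctorLES.exists_δ (inclV U V) (resNat (inf_le_left : V ⊓ U ≤ V))
      (inclV_res U V) (shortExact_sectV U V) p
    obtain ⟨⟨w, he⟩, w', he'⟩ := hδ F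
    have hz := (isZero_rightDerived_secV V F (p + 1)).1 (hV V hVB (p + 1) (by omega))
    refine he'.isZero_of_both_zeros ?_ (hz.eq_of_tgt _ _)
    obtain _ | p := p
    · have hc := Groth.L04.FunctorLES.toRightDerivedZero_rightDerived (resNat (inf_le_left : V ⊓ U ≤ V)) F
      haveI : Epi ((resNat (inf_le_left : V ⊓ U ≤ V)).app F) := (AddCommGrpCat.epi_iff_surjective _).2 (h1 hq V hVB)
      haveI : Epi ((secV V).toRightDerivedZero.app F ≫
          (NatTrans.rightDerived (resNat (inf_le_left : V ⊓ U ≤ V)) 0).app F) := by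
        rw [hc]; infer_instance
      haveI := epi_of_epi ((secV V).toRightDerivedZero.app F)
        ((NatTrans.rightDerived (resNat (inf_le_left : V ⊓ U ≤ V)) 0).app F)
      exact zero_of_epi_comp _ w
    · exact ((isZero_rightDerived_secV _ F (p + 1)).1 (h2 (p + 1) (by omega) hq V hVB)).eq_of_src _ _

end Groth.L04.SupportSh
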